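import Groth.Agent.AbsApprox.ClosedLim
import Groth.Agent.LimMore.SepScheme
import Groth.Agent.ShriekColim.ProperLimit
import Mathlib.CategoryTheory.Limits.Constructions.Over.Connected

/-!
Approximations of proper schemes by closed subschemes are eventually proper.
-/

set_option autoImplicit false
set_option backward.isDefEq.respectTransparency false
universe u
open CategoryTheory CategoryTheory.Limits AlgebraicGeometry Opposite

namespace Groth.Agent.AbsApprox

variable {X X' S : Scheme.{u}} (f : X ⟶ S) (f' : X' ⟶ S) (j : X ⟶ X') [IsClosedImmersion j] (w : j ≫ f' = f)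
  [LocallyOfFinitePresentation f'] [QuasiCompact f'] [QuasiSeparated f'] [CompactSpace X'] [QuasiSeparatedSpace X']
  [CompactSpace S] [QuasiSeparatedSpace S]

theorem range_ι_inter :
    ⋂ L : LimClosed.FTBelow j.ker, (L.1.support : Set X') = Set.range j := by
  have h : (j.ker.support : Set X') = Set.range j := by
    rw [Scheme.Hom.support_ker]
    exact j.isClosedEmbedding.isClosed_range.closure_eq
  rw [← h, show j.ker.support = (⨆ L : LimClosed.FTBelow j.ker, L.1).support by rw [LimClosed.iSup_ftBelow]]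
  simp

include w in
theorem exists_isProper_closedDiagram [IsProper f] :
    ∃ L₁ : (LimClosed.FTBelow j.ker)ᵒᵖ, ∀ L : (LimClosed.FTBelow j.ker)ᵒᵖ, (L ⟶ L₁) →
      IsProper ((closedDiagram f' j).obj L).hom := by
  classical
  let D := closedDiagram f' j
  let E := D ⋙ Over.forget S
  haveI hci : ∀ {L L'} (a : L ⟶ L'), IsClosedImmersion (E.map a) := fun a => isClosedImmersion_closedDiagram_map f' j a
  haveI : ∀ L, CompactSpace (E.obj L) := fun L =>
    QuasiCompact.compactSpace_of_compactSpace ((LimClosed.diagram j.ker).obj L).hom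
  haveI : ∀ L, QuasiSeparatedSpace (E.obj L) := fun L =>
    quasiSeparatedSpace_of_quasiSeparated ((LimClosed.diagram j.ker).obj L).hom
  haveI : IsCofiltered (LimClosed.FTBelow j.ker)ᵒᵖ := isCofiltered_op_of_isFiltered _
  haveI : IsConnected (LimClosed.FTBelow j.ker)ᵒᵖ := IsCofiltered.isConnected _
  haveI : ∀ L, LocallyOfFinitePresentation (D.obj L).hom := fun L => lfp_closedDiagram f' j L
  have hE : IsLimit ((Over.forget S).mapCone (closedCone f f' j w)) :=
    isLimitOfPreserves (Over.forget S) (isLimitClosedCone f f' j w)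
  let t : ∀ L, E.obj L ⟶ S := fun L => (D.obj L).hom
  have ht : ∀ {L L'} (a : L ⟶ L'), E.map a ≫ t L' = t L := fun a => Over.w (D.map a)
  let L₀ : (LimClosed.FTBelow j.ker)ᵒᵖ := op (Classical.arbitrary _)
  haveI : IsSeparated (((Over.forget S).mapCone (closedCone f f' j w)).π.app L₀ ≫ t L₀) := by
    show IsSeparated (((closedCone f f' j w).π.app L₀).left ≫ (D.obj L₀).hom)
    rw [Over.w ((closedCone f f' j w).π.app L₀)]
    exact (inferInstance : IsSeparated f)
  obtain ⟨L₁, hL₁⟩ := LimMore.exists_isSeparated_over E t ht _ hE L₀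
  haveI : IsSeparated (t L₁) := hL₁ L₁ (𝟙 _)
  let ι₁ : E.obj L₁ ⟶ X' := ((LimClosed.diagram j.ker).obj L₁).hom
  have key : ∀ V : S.affineOpens, ∃ L₂, ∀ L, (L ⟶ L₂) → IsProper ((t L) ∣_ (V : S.Opens)) := by
    intro V
    let W := (t L₁) ⁻¹ᵁ (V : S.Opens)
    let p : W.toScheme ⟶ (V : S.Opens).toScheme := (t L₁) ∣_ V
    haveI : IsAffine (V : S.Opens).toScheme := V.2
    haveI : QuasiCompact (t L₁) := quasiCompact_of_compactSpace _
    haveI : QuasiCompact p := inferInstanceAs (QuasiCompact ((t L₁) ∣_ (V : S.Opens)))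
    haveI : CompactSpace W.toScheme := QuasiCompact.compactSpace_of_compactSpace p
    haveI : IsSeparated p := inferInstanceAs (IsSeparated ((t L₁) ∣_ (V : S.Opens)))
    haveI : LocallyOfFiniteType p := inferInstanceAs (LocallyOfFiniteType ((t L₁) ∣_ (V : S.Opens)))
    let C : {L : LimClosed.FTBelow j.ker // L₁.unop ≤ L} → Set W.toScheme := fun L =>
      (W.ι ≫ ι₁) ⁻¹' (L.1.1.support : Set X')
    haveI : Nonempty {L : LimClosed.FTBelow j.ker // L₁.unop ≤ L} := ⟨⟨L₁.unop, le_rfl⟩⟩
    have hC : ∀ L, IsClosed (C L) := fun L => L.1.1.support.isClosed.preimage (W.ι ≫ ι₁).continuous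
    have hdir : Directed (fun a b => b ⊆ a) C := fun L L' => by
      obtain ⟨M, hM, hM'⟩ := exists_ge_ge L.1 L'.1
      exact ⟨⟨M, L.2.trans hM⟩, Set.preimage_mono (Scheme.IdealSheafData.support_antitone hM),
        Set.preimage_mono (Scheme.IdealSheafData.support_antitone hM')⟩
    -- the limit inside the stage
    let jW : (f ⁻¹ᵁ (V : S.Opens)).toScheme ⟶ W.toScheme :=
      IsOpenImmersion.lift W.ι ((f ⁻¹ᵁ (V : S.Opens)).ι ≫ ((closedCone f f' j w).π.app L₁).left) (by
        rintro _ ⟨x, rfl⟩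
        rw [Scheme.Opens.range_ι]
        show (((closedCone f f' j w).π.app L₁).left ≫ t L₁) x.1 ∈ (V : S.Opens)
        rw [Over.w ((closedCone f f' j w).π.app L₁)]
        exact x.2)
    have hjW : jW ≫ W.ι = (f ⁻¹ᵁ (V : S.Opens)).ι ≫ ((closedCone f f' j w).π.app L₁).left := IsOpenImmersion.lift_fac _ _ _
    have hjι : ((closedCone f f' j w).π.app L₁).left ≫ ι₁ = j := Over.w ((LimClosed.cone j.ker j rfl).π.app L₁)
    have hjp : jW ≫ p = f ∣_ (V : S.Opens) := by
      rw [← cancel_mono (V : S.Opens).ι, Category.assoc, morphismRestrict_ι, morphismRestrict_ι, reassoc_of% hjW]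
      exact congrArg ((f ⁻¹ᵁ (V : S.Opens)).ι ≫ ·) (Over.w ((closedCone f f' j w).π.app L₁))
    haveI : IsProper (jW ≫ p) := hjp ▸ inferInstance
    haveI : IsProper jW := IsProper.of_comp jW p
    have hint : ⋂ L, C L = Set.range jW := by
      refine subset_antisymm (fun x hx => ?_) ?_
      · have h1 : ι₁ x.1 ∈ ⋂ L : LimClosed.FTBelow j.ker, (L.1.support : Set X') := by
          refine Set.mem_iInter.2 fun L => ?_
          obtain ⟨M, hM, hM'⟩ := exists_ge_ge L L₁.unop
          exact Scheme.IdealSheafData.support_antitone hM (Set.mem_iInter.1 hx ⟨M, hM'⟩)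
        rw [range_ι_inter] at h1
        obtain ⟨z, hz⟩ := h1
        have hz' : ((closedCone f f' j w).π.app L₁).left z = x.1 :=
          ((LimClosed.diagram j.ker).obj L₁).hom.isClosedEmbedding.injective (by
            exact (congr($hjι z)).trans hz)
        have hzV : z ∈ f ⁻¹ᵁ (V : S.Opens) := by
          show f z ∈ (V : S.Opens)
          have e : f z = t L₁ x.1 :=
            ((congr($(Over.w ((closedCone f f' j w).π.app L₁)) z)).symm).trans (congrArg (t L₁) hz')
          rw [e]
          exact x.2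
        exact ⟨⟨z, hzV⟩, W.ι.isOpenEmbedding.injective ((congr($hjW ⟨z, hzV⟩)).trans hz')⟩
      · rintro _ ⟨z, rfl⟩
        refine Set.mem_iInter.2 fun L => ?_
        show ι₁ (W.ι (jW z)) ∈ (L.1.1.support : Set X')
        have h1 : ι₁ (W.ι (jW z)) = j z.1 :=
          (congrArg ι₁ (congr($hjW z))).trans (congr($hjι z.1))
        rw [h1]
        exact Set.mem_iInter.1 ((range_ι_inter j).ge ⟨z.1, rfl⟩) L.1
    have hP : ClSub.IsProperOver p (⋂ L, C L) := by
      rw [hint]
      refine ⟨jW.isClosedMap.isClosed_range, ?_⟩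
      let red := (Scheme.IdealSheafData.vanishingIdeal ⟨Set.range jW, jW.isClosedMap.isClosed_range⟩).subschemeι
      haveI : Surjective (pullback.snd jW red) := ⟨fun y => by
        obtain ⟨z, hz⟩ : red y ∈ Set.range jW := by
          have h2 : red y ∈ Set.range red := ⟨y, rfl⟩
          rw [Scheme.IdealSheafData.range_subschemeι] at h2
          simpa using h2
        obtain ⟨v, -, hv⟩ := Scheme.Pullback.exists_preimage_pullback z y hz
        exact ⟨v, hv⟩⟩
      haveI : IsProper (pullback.snd jW red ≫ red ≫ p) := by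
        rw [← pullback.condition_assoc]; infer_instance
      exact ClSubLib.isProper_of_surjective (pullback.snd jW red) (red ≫ p)
    obtain ⟨⟨L₂, hL₂⟩, hc, hL₂P⟩ := ShriekColim.exists_isProperOver_of_directed p C hC hdir hP
    refine ⟨op L₂, fun L a => ?_⟩
    let b : L ⟶ L₁ := a ≫ (homOfLE hL₂).op
    let i : (t L ⁻¹ᵁ (V : S.Opens)).toScheme ⟶ W.toScheme :=
      (E.map b).resLE W _ (by rw [← Scheme.Hom.comp_preimage, ht b])
    haveI : IsClosedImmersion i := by
      have e : E.map b ⁻¹ᵁ W = t L ⁻¹ᵁ (V : S.Opens) := by rw [← Scheme.Hom.comp_preimage, ht b]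
      have e2 : i = (Scheme.isoOfEq _ e.symm).hom ≫ E.map b ∣_ W := by
        rw [← cancel_mono W.ι]; simp [i]
      rw [e2]; infer_instance
    have hip : i ≫ p = t L ∣_ (V : S.Opens) := by
      rw [← cancel_mono (V : S.Opens).ι, Category.assoc, morphismRestrict_ι, morphismRestrict_ι,
        Scheme.Hom.resLE_comp_ι_assoc, ht b]
    let red := (Scheme.IdealSheafData.vanishingIdeal ⟨C ⟨L₂, hL₂⟩, hc⟩).subschemeι
    haveI : IsProper (red ≫ p) := hL₂P
    have hi : Set.range i ⊆ C ⟨L₂, hL₂⟩ := by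
      rintro _ ⟨y, rfl⟩
      show ι₁ (W.ι (i y)) ∈ (L₂.1.support : Set X')
      have h1 : W.ι (i y) = E.map b y.1 := congr($((E.map b).resLE_comp_ι _) y)
      rw [h1]
      refine Scheme.IdealSheafData.support_antitone (show L₂ ≤ L.unop from leOfHom a.unop) ?_
      exact (Scheme.IdealSheafData.range_subschemeι L.unop.1).le
        ⟨y.1, (congr($(Over.w ((LimClosed.diagram j.ker).map b)) y.1)).symm⟩
    haveI : Surjective (pullback.fst i red) := ⟨fun y => by
      obtain ⟨z, hz⟩ : i y ∈ Set.range red := by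
        rw [Scheme.IdealSheafData.range_subschemeι]
        simpa using hi ⟨y, rfl⟩
      obtain ⟨v, hv, -⟩ := Scheme.Pullback.exists_preimage_pullback y z hz.symm
      exact ⟨v, hv⟩⟩
    haveI : IsProper (pullback.fst i red ≫ i ≫ p) := by
      rw [pullback.condition_assoc]; infer_instance
    haveI : LocallyOfFiniteType (i ≫ p) := inferInstance
    rw [← hip]
    exact ClSubLib.isProper_of_surjective (pullback.fst i red) (i ≫ p)
  obtain ⟨s, hs⟩ := isCompact_univ.elim_finite_subcover (fun V : S.affineOpens => ((V : S.Opens) : Set S))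
    (fun V => (V : S.Opens).2) (fun y _ => by
      obtain ⟨_, ⟨V, hV, rfl⟩, hyV, -⟩ := S.isBasis_affineOpens.exists_subset_of_mem_open (Set.mem_univ y) isOpen_univ
      exact Set.mem_iUnion.2 ⟨⟨V, hV⟩, hyV⟩)
  choose L₂ hL₂ using key
  obtain ⟨n, hn⟩ := IsCofiltered.inf_objs_exists (s.image L₂)
  refine ⟨n, fun L a => IsZariskiLocalAtTarget.of_iSup_eq_top (fun V : s => (V.1 : S.Opens)) ?_ fun V =>
    hL₂ V.1 L (a ≫ (hn (Finset.mem_image_of_mem _ V.2)).some)⟩
  refine top_le_iff.1 fun y _ => ?_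
  obtain ⟨V, hV, hyV⟩ := Set.mem_iUnion₂.1 (hs (Set.mem_univ y))
  exact TopologicalSpace.Opens.mem_iSup.2 ⟨⟨V, hV⟩, hyV⟩

end Groth.Agent.AbsApprox
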