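import Groth.Agent.AbsApprox.Step

/-!
Absolute noetherian approximation: a quasi-compact quasi-separated scheme is a directed limit, with
affine transition maps and schematically dominant projections, of schemes of finite type over `ℤ`.
-/

set_option autoImplicit false
set_option backward.isDefEq.respectTransparency false
universe u
open CategoryTheory CategoryTheory.Limits AlgebraicGeometry Opposite

open Groth.Agent.LimModel (isOpenImmersion_inl isOpenImmersion_inr inl_range_sup_inr_range exists_of_inl_eq_inr)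

namespace Groth.Agent.AbsApprox

theorem exists_finset_eq_iSup {A : Type u} [CommRing A] (W : (Spec (CommRingCat.of A)).Opens)
    (hW : IsCompact (SetLike.coe W : Set (PrimeSpectrum A))) : ∃ s : Finset A, W = ⨆ f ∈ s, PrimeSpectrum.basicOpen f := by
  obtain ⟨t, e⟩ := PrimeSpectrum.isCompact_isOpen_iff.1 ⟨hW, W.2⟩
  refine ⟨t, TopologicalSpace.Opens.ext ?_⟩
  rw [← e]
  ext p
  simp [PrimeSpectrum.mem_zeroLocus, Set.subset_def]

theorem isIso_desc {X : Scheme.{u}} {A : Type u} [CommRing A] {U : X.Opens} (iV : Spec (CommRingCat.of A) ⟶ X)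
    [IsOpenImmersion iV] (h : U ⊔ iV.opensRange = ⊤) (jU : (iV ⁻¹ᵁ U).toScheme ⟶ U.toScheme) [IsOpenImmersion jU]
    (w : jU ≫ U.ι = (iV ⁻¹ᵁ U).ι ≫ iV) : IsIso (pushout.desc U.ι iV w) := by
  let P := (pushout jU (iV ⁻¹ᵁ U).ι : Scheme.{u})
  let m : P ⟶ X := pushout.desc U.ι iV w
  haveI := isOpenImmersion_inl jU (iV ⁻¹ᵁ U).ι
  haveI := isOpenImmersion_inr jU (iV ⁻¹ᵁ U).ι
  have hl : IsPullback (𝟙 U.toScheme) (pushout.inl jU (iV ⁻¹ᵁ U).ι) U.ι m := by
    refine IsOpenImmersion.isPullback _ _ _ _ ((pushout.inl_desc _ _ _).trans (Category.id_comp _).symm)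
      (TopologicalSpace.Opens.ext (Set.ext fun x => ⟨fun hx => ?_, ?_⟩))
    · rw [Scheme.Opens.opensRange_ι] at hx
      rcases (inl_range_sup_inr_range jU (iV ⁻¹ᵁ U).ι).ge (Set.mem_univ x) with hx' | ⟨y, rfl⟩
      · exact hx'
      · have hy : y ∈ iV ⁻¹ᵁ U := by
          show iV y ∈ U
          rw [← pushout.inr_desc (f := jU) (g := (iV ⁻¹ᵁ U).ι) U.ι iV w, Scheme.Hom.comp_apply]
          exact hx
        exact ⟨jU ⟨y, hy⟩, congr($(pushout.condition (f := jU) (g := (iV ⁻¹ᵁ U).ι)) ⟨y, hy⟩)⟩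
    · rintro ⟨y, rfl⟩
      rw [Scheme.Opens.opensRange_ι]
      show m (pushout.inl jU (iV ⁻¹ᵁ U).ι y) ∈ U
      rw [← Scheme.Hom.comp_apply, pushout.inl_desc]
      exact y.2
  have hr : IsPullback (𝟙 (Spec (CommRingCat.of A))) (pushout.inr jU (iV ⁻¹ᵁ U).ι) iV m := by
    refine IsOpenImmersion.isPullback _ _ _ _ ((pushout.inr_desc _ _ _).trans (Category.id_comp _).symm)
      (TopologicalSpace.Opens.ext (Set.ext fun x => ⟨fun hx => ?_, ?_⟩))
    · rcases (inl_range_sup_inr_range jU (iV ⁻¹ᵁ U).ι).ge (Set.mem_univ x) with ⟨y, rfl⟩ | hx'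
      · obtain ⟨z, hz⟩ := hx
        have e : iV z = y.1 := by
          rw [hz, ← Scheme.Hom.comp_apply, pushout.inl_desc]
          rfl
        have hzU : z ∈ iV ⁻¹ᵁ U := show iV z ∈ U from e ▸ y.2
        refine ⟨z, ?_⟩
        have hj : jU ⟨z, hzU⟩ = y := Subtype.ext ((congr($w ⟨z, hzU⟩)).trans e)
        rw [← hj]
        exact (congr($(pushout.condition (f := jU) (g := (iV ⁻¹ᵁ U).ι)) ⟨z, hzU⟩)).symm
      · exact hx'
    · rintro ⟨y, rfl⟩
      refine ⟨y, ?_⟩
      rw [← Scheme.Hom.comp_apply, pushout.inr_desc]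
  let 𝒰 : X.OpenCover := Scheme.Cover.mkOfCovers (ULift.{u} Bool) (fun b => cond b.down U.toScheme (Spec (CommRingCat.of A)))
    (fun b => match b with | ⟨true⟩ => U.ι | ⟨false⟩ => iV)
    (fun x => by
      rcases (h.ge (Set.mem_univ x) : x ∈ U ⊔ iV.opensRange) with hx | ⟨y, hy⟩
      · exact ⟨⟨true⟩, ⟨x, hx⟩, rfl⟩
      · exact ⟨⟨false⟩, y, hy⟩)
    (fun b => by rcases b with ⟨_ | _⟩ <;> simp only <;> infer_instance)
  show MorphismProperty.isomorphisms Scheme m
  rw [IsZariskiLocalAtTarget.iff_of_openCover (P := MorphismProperty.isomorphisms Scheme.{u}) 𝒰]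
  rintro ⟨_ | _⟩
  · exact ((MorphismProperty.isomorphisms Scheme.{u}).arrow_mk_iso_iff (Arrow.isoMk hr.flip.isoPullback (Iso.refl _)
      (by simp [Scheme.Cover.pullbackHom, 𝒰]; exact IsPullback.isoPullback_hom_snd _))).1
        (show IsIso (𝟙 (Spec (CommRingCat.of A))) from inferInstance)
  · exact ((MorphismProperty.isomorphisms Scheme.{u}).arrow_mk_iso_iff (Arrow.isoMk hl.flip.isoPullback (Iso.refl _)
      (by simp [Scheme.Cover.pullbackHom, 𝒰]; exact IsPullback.isoPullback_hom_snd _))).1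
        (show IsIso (𝟙 U.toScheme) from inferInstance)

theorem hasApprox_step {X : Scheme.{u}} (U V : X.Opens) (hV : IsAffineOpen V) (h : U ⊔ V = ⊤)
    (hUV : IsCompact ((U ⊓ V : X.Opens) : Set X)) (hU : HasApprox U.toScheme) : HasApprox X := by
  classical
  obtain ⟨I, _, _, _, D, π, hl, h1, h2, h3⟩ := hU
  let A : Type u := Γ(X, V)
  let iV : Spec (CommRingCat.of A) ⟶ X := hV.fromSpec
  haveI : IsOpenImmersion iV := inferInstanceAs (IsOpenImmersion hV.fromSpec)
  have hiV : iV.opensRange = V := hV.opensRange_fromSpec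
  let W : (Spec (CommRingCat.of A)).Opens := iV ⁻¹ᵁ U
  let jU : W.toScheme ⟶ U.toScheme := iV.resLE U W le_rfl
  have w : jU ≫ U.ι = W.ι ≫ iV := Scheme.Hom.resLE_comp_ι _ _
  haveI : IsOpenImmersion (jU ≫ U.ι) := by rw [w]; infer_instance
  haveI : IsOpenImmersion jU := IsOpenImmersion.of_comp jU U.ι
  have hWc : IsCompact (SetLike.coe W : Set (Spec (CommRingCat.of A))) := by
    refine iV.isOpenEmbedding.isInducing.isCompact_iff.2 ?_
    have : iV '' SetLike.coe W = ((U ⊓ V : X.Opens) : Set X) := by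
      rw [show SetLike.coe W = iV ⁻¹' (U : Set X) from rfl, Set.image_preimage_eq_inter_range]
      exact congrArg (fun S => (U : Set X) ∩ S) (congrArg SetLike.coe hiV)
    exact this ▸ hUV
  obtain ⟨s, hs⟩ := exists_finset_eq_iSup W hWc
  haveI : CompactSpace W.toScheme := isCompact_iff_compactSpace.mp hWc
  haveI : IsCofiltered Iᵒᵖ := isCofiltered_op_of_isFiltered _
  haveI : ∀ {i j : Iᵒᵖ} (f : i ⟶ j), IsAffineHom (D.map f) := fun f => h1 _ _ f
  obtain ⟨⟨i₀⟩, W₀, hW₀, hW₀'⟩ := exists_preimage_eq D (Cone.mk U.toScheme π) hl jU.opensRange (by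
    exact isCompact_range jU.continuous)
  -- restrict to the indices above `i₀`
  let I' : Type u := {i : I // i₀ ≤ i}
  haveI : Nonempty I' := ⟨⟨i₀, le_rfl⟩⟩
  haveI : IsDirected I' (fun a b => a ≤ b) := ⟨fun a b => by
    obtain ⟨c, hc, hc'⟩ := exists_ge_ge a.1 b.1
    exact ⟨⟨c, a.2.trans hc⟩, hc, hc'⟩⟩
  let F : I' →o I := ⟨Subtype.val, fun _ _ h => h⟩
  haveI : F.monotone.functor.op.Initial := final_of_cofinal F fun i => by
    obtain ⟨c, hc, hc'⟩ := exists_ge_ge i i₀
    exact ⟨⟨c, hc'⟩, hc⟩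
  let d : StepData.{u} :=
    { I := I'
      D := F.monotone.functor.op ⋙ D
      U := U.toScheme
      π := Functor.whiskerLeft F.monotone.functor.op π
      isLim := (Functor.Initial.isLimitWhiskerEquiv F.monotone.functor.op (Cone.mk U.toScheme π)).symm hl
      aff := fun _ _ _ => h1 _ _ _
      ft := fun _ => h2 _
      std := fun _ => h3 _
      i₀ := ⟨i₀, le_rfl⟩
      le := fun i => i.2
      W₀ := W₀
      compactW₀ := hW₀
      A := A
      W := W
      s := s
      hs := hs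
      jU := jU
      preimage := congrArg (fun O : U.toScheme.Opens => (O : Set U.toScheme)) hW₀' }
  have hd : HasApprox (pushout jU W.ι) := d.hasApprox
  haveI := isIso_desc iV (by rw [hiV]; exact h) jU w
  exact hasApprox_of_iso (asIso (pushout.desc U.ι iV w)) hd

/-- **Absolute noetherian approximation.** -/
theorem hasApprox (X : Scheme.{u}) [CompactSpace X] [QuasiSeparatedSpace X] : HasApprox X := by
  classical
  obtain ⟨t, ht⟩ := isCompact_univ.elim_finite_subcover (fun W : X.affineOpens => ((W : X.Opens) : Set X))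
    (fun W => (W : X.Opens).2) (fun y _ => by
      obtain ⟨_, ⟨W, hW, rfl⟩, hyW, -⟩ := X.isBasis_affineOpens.exists_subset_of_mem_open (Set.mem_univ y) isOpen_univ
      exact Set.mem_iUnion.2 ⟨⟨W, hW⟩, hyW⟩)
  let O : Finset X.affineOpens → X.Opens := fun s => s.sup (fun W : X.affineOpens => (W : X.Opens))
  have key : ∀ s : Finset X.affineOpens, IsCompact (SetLike.coe (O s)) ∧ HasApprox (O s).toScheme := by
    intro s
    induction s using Finset.induction with
    | empty =>
      rw [show O ∅ = ⊥ from Finset.sup_empty]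
      haveI : IsAffine (⊥ : X.Opens).toScheme := isAffineOpen_bot X
      exact ⟨isCompact_empty, hasApprox_of_isAffine _⟩
    | insert W s _ ih =>
      rw [show O (insert W s) = (W : X.Opens) ⊔ O s from Finset.sup_insert]
      obtain ⟨hc, hm⟩ := ih
      refine ⟨by rw [TopologicalSpace.Opens.coe_sup]; exact W.2.isCompact.union hc, ?_⟩
      let T : X.Opens := (W : X.Opens) ⊔ O s
      show HasApprox T.toScheme
      refine hasApprox_step (T.ι ⁻¹ᵁ O s) (T.ι ⁻¹ᵁ (W : X.Opens)) ?_ ?_ ?_ ?_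
      · exact W.2.preimage_of_isOpenImmersion T.ι (by rw [Scheme.Opens.opensRange_ι]; exact le_sup_left)
      · rw [← Scheme.Hom.preimage_sup, sup_comm]; exact T.ι_preimage_self
      · rw [← Scheme.Hom.preimage_inf]
        show IsCompact (T.ι ⁻¹' (SetLike.coe (O s) ∩ SetLike.coe (W : X.Opens)))
        refine T.ι.isOpenEmbedding.isInducing.isCompact_preimage' ?_ ?_
        · exact QuasiSeparatedSpace.inter_isCompact _ _ (O s).2 hc (W : X.Opens).2 W.2.isCompact
        · rw [Scheme.Opens.range_ι]; exact fun y hy => Or.inl hy.2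
      · exact hasApprox_of_iso ((T.ι.isoImage _) ≪≫
          X.isoOfEq ((T.functor_map_eq_inf _).trans (inf_eq_left.mpr le_sup_right))).symm hm
  have htop : O t = ⊤ := top_le_iff.mp fun y _ => by
    obtain ⟨W, hW, hyW⟩ := Set.mem_iUnion₂.1 (ht (Set.mem_univ y))
    exact Finset.le_sup (f := fun W : X.affineOpens => (W : X.Opens)) hW hyW
  have h := (key t).2
  rw [htop] at h
  exact hasApprox_of_iso X.topIso h

end Groth.Agent.AbsApprox
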