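import Groth.Agent.ModDesc.Descend
import Groth.Agent.SchDense.Unit
import Groth.Agent.TMul.Pullback
import Mathlib.AlgebraicGeometry.AffineTransitionLimit

/-!
# Ampleness descends along limits with affine transition maps
-/

set_option autoImplicit false
set_option backward.isDefEq.respectTransparency false

universe u

open CategoryTheory CategoryTheory.Limits AlgebraicGeometry TopologicalSpace

namespace Groth.Agent.AbsApprox

open Groth.Agent

variable {X : Scheme.{u}}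

theorem genLocus_comp_iso {L L' M : X.Modules} (a a' : Coh.structureModule X ⟶ M) [IsIso a] [IsIso a']
    (w : M ⟶ L) (b : L ⟶ L') [IsIso b] :
    CohB1.genLocus L' (a ≫ w ≫ b) = CohB1.genLocus L (a' ≫ w) := by
  refine congrArg sSup (Set.ext fun U => ?_)
  simp only [Set.mem_setOf_eq, Functor.map_comp, isIso_comp_left_iff, isIso_comp_right_iff]

theorem isCompact_genLocus [CompactSpace X] [QuasiSeparatedSpace X] {L : X.Modules} (hL : PicF.IsInvertible L)
    (s : Coh.structureModule X ⟶ L) : IsCompact (CohB1.genLocus L s : Set X) := by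
  classical
  have h : ∀ x : X, ∃ U : X.Opens, x ∈ U ∧ IsCompact ((U ⊓ CohB1.genLocus L s : X.Opens) : Set X) := by
    intro x
    obtain ⟨V, g, hxV, hg⟩ := TMul.exists_isGen hL x
    obtain ⟨U, hU, hxU, hUV⟩ := exists_isAffineOpen_mem_and_subset (x := x) (U := V) hxV
    obtain ⟨c, hc⟩ := ((hg.res hUV) U le_rfl).2 (TMul.val s U)
    simp only [Groth.Agent.QC.res_self] at hc
    refine ⟨U, hxU, ?_⟩
    rw [TMul.genLocus_inf s (hg.res hUV) hc.symm]
    exact (hU.basicOpen c).isCompact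
  choose U hxU hU using h
  obtain ⟨T, hT⟩ := (isCompact_univ (X := X)).elim_finite_subcover (fun x => (U x : Set X)) (fun x => (U x).2)
    fun x _ => Set.mem_iUnion.2 ⟨x, hxU x⟩
  have e : (CohB1.genLocus L s : Set X) = ⋃ x ∈ T, ((U x ⊓ CohB1.genLocus L s : X.Opens) : Set X) := by
    ext y
    refine ⟨fun hy => ?_, fun hy => ?_⟩
    · obtain ⟨x, hx, hyx⟩ := Set.mem_iUnion₂.1 (hT (Set.mem_univ y))
      exact Set.mem_iUnion₂.2 ⟨x, hx, hyx, hy⟩
    · obtain ⟨x, hx, hyx⟩ := Set.mem_iUnion₂.1 hy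
      exact hyx.2
  rw [e]
  exact T.isCompact_biUnion fun x _ => hU x

theorem nonempty_powIso {M N : X.Modules} (e : M ≅ N) : ∀ n : ℕ,
    Nonempty (CohB1.tensorPow M n ≅ CohB1.tensorPow N n)
  | 0 => ⟨Iso.refl _⟩
  | n + 1 => by
    obtain ⟨i⟩ := nonempty_powIso e n
    exact ⟨PicGrp.tensorModIso i e⟩

variable {I : Type u} [SmallCategory I] [IsCofiltered I] (D : I ⥤ Scheme.{u})
  [∀ {i j} (f : i ⟶ j), IsAffineHom (D.map f)] [∀ i, CompactSpace (D.obj i)]
  [∀ i, QuasiSeparatedSpace (D.obj i)] (c : Cone D) (hc : IsLimit c)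
  {i₀ : I} {L₀ : (D.obj i₀).Modules} (hL₀ : PicF.IsInvertible L₀)

include hc hL₀ in
/-- a section with affine locus over the limit comes from a stage, where its locus is affine -/
theorem exists_stage_section {n : ℕ}
    (s : Coh.structureModule c.pt ⟶ CohB1.tensorPow ((Scheme.Modules.pullback (c.π.app i₀)).obj L₀) n)
    (hs : IsAffineOpen (CohB1.genLocus _ s)) :
    ∃ (j : I) (φ : j ⟶ i₀) (t : Coh.structureModule (D.obj j) ⟶
      CohB1.tensorPow ((Scheme.Modules.pullback (D.map φ)).obj L₀) n),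
      IsAffineOpen (CohB1.genLocus _ t) ∧ c.π.app j ⁻¹ᵁ CohB1.genLocus _ t = CohB1.genLocus _ s := by
  let H := CohB1.tensorPow L₀ n
  have hHinv : PicF.IsInvertible H := TMul.isInvertible_tensorPow hL₀ n
  haveI : Coh.IsQCoh H := TMul.isQCoh_of_isInvertible hHinv
  haveI : Coh.IsQCoh (Coh.structureModule (D.obj i₀)) := QC.isQCoh_unit _
  obtain ⟨eI⟩ := TMul.nonempty_pullPowIso (c.π.app i₀) L₀ n
  obtain ⟨j, φ, hj, hhj⟩ := ModDesc.exists_bc_eq_hom D c hc H (SchDense.isFP_unit (D.obj i₀))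
    ((PicLoc.pullbackStructureIso (c.π.app i₀)).hom ≫ s ≫ eI.hom)
  obtain ⟨eJ⟩ := TMul.nonempty_pullPowIso (D.map φ) L₀ n
  let σ : Coh.structureModule (D.obj j) ⟶ (Scheme.Modules.pullback (D.map φ)).obj H :=
    (PicLoc.pullbackStructureIso (D.map φ)).inv ≫ hj
  have hσ : c.π.app j ⁻¹ᵁ CohB1.genLocus _ σ = CohB1.genLocus _ s := by
    rw [← TMul.genLocus_pullback (c.π.app j) (PicLoc.isInvertible_pullback (D.map φ) hHinv) σ
      (PicLoc.pullbackStructureIso (c.π.app j)).symm]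
    have hs' : s = ((PicLoc.pullbackStructureIso (c.π.app i₀)).inv ≫
        ((ModDesc.trIso (c.π.app j) (D.map φ) (c.w φ)).app _).inv) ≫ (Scheme.Modules.pullback (c.π.app j)).map hj ≫
        (((ModDesc.trIso (c.π.app j) (D.map φ) (c.w φ)).app H).hom ≫ eI.inv) := by
      have := hhj
      simp only [ModDesc.bc] at this
      rw [Category.assoc, reassoc_of% this]
      simp
    conv_rhs => rw [hs', genLocus_comp_iso _ ((PicLoc.pullbackStructureIso (c.π.app j)).symm.hom ≫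
      (Scheme.Modules.pullback (c.π.app j)).map (PicLoc.pullbackStructureIso (D.map φ)).inv)]
    simp only [σ, Functor.map_comp, Category.assoc]
  obtain ⟨k, V, hV, hVs⟩ := exists_isAffineOpen_preimage_eq D c hc (CohB1.genLocus _ s) hs
  obtain ⟨l, a, b, -⟩ := IsCofilteredOrEmpty.cone_objs j k
  have hcW : IsCompact (D.map a ⁻¹ᵁ CohB1.genLocus _ σ : Set (D.obj l)) :=
    (D.map a).isCompact_preimage
      (isCompact_genLocus (PicLoc.isInvertible_pullback (D.map φ) hHinv) σ)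
  obtain ⟨m, e, hm⟩ := exists_map_preimage_eq_map_preimage D c hc hcW
    ((D.map b).isCompact_preimage hV.isCompact) (by
      rw [← Scheme.Hom.comp_preimage, c.w, hσ, ← Scheme.Hom.comp_preimage, c.w, hVs])
  let q := D.map (e ≫ a)
  obtain ⟨eM⟩ := TMul.nonempty_pullPowIso (D.map ((e ≫ a) ≫ φ)) L₀ n
  let τ : Coh.structureModule (D.obj m) ⟶ CohB1.tensorPow ((Scheme.Modules.pullback (D.map ((e ≫ a) ≫ φ))).obj L₀) n :=
    ((PicLoc.pullbackStructureIso q).inv ≫ (Scheme.Modules.pullback q).map σ) ≫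
      ((ModDesc.trIso q (D.map φ) (D.map_comp _ _).symm).app H).hom ≫ eM.inv
  have hτ : CohB1.genLocus _ τ = q ⁻¹ᵁ CohB1.genLocus _ σ :=
    (TMul.genLocus_comp _ _).trans
      (TMul.genLocus_pullback q (PicLoc.isInvertible_pullback (D.map φ) hHinv) σ (PicLoc.pullbackStructureIso q).symm)
  have hq : q ⁻¹ᵁ CohB1.genLocus _ σ = D.map e ⁻¹ᵁ (D.map a ⁻¹ᵁ CohB1.genLocus _ σ) := by
    rw [← Scheme.Hom.comp_preimage, ← D.map_comp]
  refine ⟨m, (e ≫ a) ≫ φ, τ, ?_, ?_⟩
  · rw [hτ, hq, hm]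
    exact (hV.preimage _).preimage _
  · rw [hτ, ← Scheme.Hom.comp_preimage, c.w, hσ]

include hc hL₀ in
/-- **Ampleness descends to a stage.** -/
theorem exists_isAmple_stage (h : CohB1.IsAmple ((Scheme.Modules.pullback (c.π.app i₀)).obj L₀)) :
    ∃ (i : I) (φ : i ⟶ i₀), CohB1.IsAmple ((Scheme.Modules.pullback (D.map φ)).obj L₀) := by
  classical
  choose n s hxs hs using h.2.2
  choose j φ t ht htj using fun x => exists_stage_section D c hc hL₀ (s x) (hs x)
  haveI : CompactSpace c.pt := h.2.1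
  obtain ⟨T, hT⟩ := (isCompact_univ (X := c.pt)).elim_finite_subcover
    (fun x => SetLike.coe (CohB1.genLocus _ (s x))) (fun x => (CohB1.genLocus _ (s x)).2)
    fun x _ => Set.mem_iUnion.2 ⟨x, hxs x⟩
  obtain ⟨k, mk⟩ := IsCofiltered.inf_objs_exists (insert i₀ (T.image j))
  have hk₀ : k ⟶ i₀ := (mk (Finset.mem_insert_self _ _)).some
  have hkj : ∀ x : T, k ⟶ j x.1 := fun x =>
    (mk (Finset.mem_insert_of_mem (Finset.mem_image_of_mem j x.2))).some
  obtain ⟨l, al, hl⟩ : ∃ (l : I) (a : l ⟶ k), ∀ x : T, a ≫ hkj x ≫ φ x.1 = a ≫ hk₀ := by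
    obtain ⟨l, mkl, hl⟩ := IsCofiltered.inf_exists (insert i₀ (insert k ∅))
      ((Finset.univ : Finset T).image (fun x => (⟨k, i₀, by simp, by simp, hkj x ≫ φ x.1⟩ :
        (Σ' (X Y : I) (_ : X ∈ insert i₀ (insert k (∅ : Finset I))) (_ : Y ∈ insert i₀ (insert k (∅ : Finset I))), X ⟶ Y))) ∪
        {⟨k, i₀, by simp, by simp, hk₀⟩})
    refine ⟨l, mkl (show k ∈ insert i₀ (insert k (∅ : Finset I)) by simp), fun x => ?_⟩
    rw [hl (f := hkj x ≫ φ x.1) (by simp) (by simp) (by simp), hl (f := hk₀) (by simp) (by simp) (by simp)]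
  let U : T → (D.obj l).Opens := fun x => D.map (al ≫ hkj x) ⁻¹ᵁ CohB1.genLocus _ (t x.1)
  have hcov : c.π.app l ⁻¹ᵁ iSup U = ⊤ := by
    refine top_le_iff.1 fun y _ => ?_
    obtain ⟨x, hx, hy⟩ := Set.mem_iUnion₂.1 (hT (Set.mem_univ y))
    rw [← htj x] at hy
    rw [Scheme.Hom.preimage_iSup]
    refine Opens.mem_iSup.2 ⟨⟨x, hx⟩, ?_⟩
    simp only [U, ← Scheme.Hom.comp_preimage, c.w]
    exact hy
  obtain ⟨i, e, he⟩ := exists_map_eq_top D c hc (iSup U) hcov
  refine ⟨i, e ≫ al ≫ hk₀, PicLoc.isInvertible_pullback _ hL₀, inferInstance, fun y => ?_⟩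
  obtain ⟨x, hx⟩ := Opens.mem_iSup.1 (he.ge (Set.mem_univ y) : D.map e y ∈ iSup U)
  let g := D.map (e ≫ al ≫ hkj x)
  have hw : g ≫ D.map (φ x.1) = D.map (e ≫ al ≫ hk₀) := by
    rw [← D.map_comp, Category.assoc, Category.assoc, hl x]
  obtain ⟨τ, hτ⟩ := TMul.exists_pullback_section g (PicLoc.isInvertible_pullback _ hL₀) (t x.1)
  obtain ⟨e₁⟩ := TMul.nonempty_pullPowIso g ((Scheme.Modules.pullback (D.map (φ x.1))).obj L₀) (n x.1 + 1)
  let ι := (ModDesc.trIso g (D.map (φ x.1)) hw).app L₀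
  obtain ⟨ν⟩ := nonempty_powIso ι (n x.1 + 1)
  refine ⟨n x.1, τ ≫ ν.hom, ?_, ?_⟩
  · rw [TMul.genLocus_comp, hτ]
    simp only [U, ← Scheme.Hom.comp_preimage] at hx
    show g y ∈ CohB1.genLocus _ (t x.1)
    rw [show g = D.map e ≫ D.map (al ≫ hkj x) from D.map_comp _ _]
    exact hx
  · rw [TMul.genLocus_comp, hτ]
    exact (ht x.1).preimage g

end Groth.Agent.AbsApprox
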