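import Groth.Agent.LimModel.FgSubalgebra
import Groth.Prelude
import Mathlib.AlgebraicGeometry.Morphisms.SchemeTheoreticallyDominant
import Mathlib.CategoryTheory.Filtered.Final

/-!
Absolute noetherian approximation: definition, affine case and generalities.
-/

set_option autoImplicit false
set_option backward.isDefEq.respectTransparency false
universe u
open CategoryTheory CategoryTheory.Limits AlgebraicGeometry Opposite

namespace Groth.Agent.AbsApprox

open LimModel

/-- `X` is a directed limit, with affine transition maps and schematically dominant projections, of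
schemes of finite type over `ℤ`. -/
def HasApprox (X : Scheme.{u}) : Prop :=
  ∃ (I : Type u) (_ : Preorder I) (_ : IsDirected I (fun a b => a ≤ b)) (_ : Nonempty I) (D : Iᵒᵖ ⥤ Scheme.{u})
    (π : (Functor.const Iᵒᵖ).obj X ⟶ D) (_ : IsLimit (Cone.mk X π)),
    (∀ (i j : Iᵒᵖ) (f : i ⟶ j), IsAffineHom (D.map f)) ∧
    (∀ i, CompactSpace (D.obj i) ∧ LocallyOfFiniteType (Limits.IsTerminal.from specULiftZIsTerminal (D.obj i))) ∧
    (∀ i, IsSchemeTheoreticallyDominant (π.app i))

theorem isLocallyNoetherian_of_lft {Y : Scheme.{u}}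
    (h : LocallyOfFiniteType (Limits.IsTerminal.from specULiftZIsTerminal Y)) : IsLocallyNoetherian Y := by
  have : IsNoetherianRing (ULift.{u} ℤ) := isNoetherianRing_of_ringEquiv ℤ ULift.ringEquiv.symm
  exact LocallyOfFiniteType.isLocallyNoetherian (Limits.IsTerminal.from specULiftZIsTerminal Y)

theorem quasiSeparatedSpace_of_lft {Y : Scheme.{u}}
    (h : LocallyOfFiniteType (Limits.IsTerminal.from specULiftZIsTerminal Y)) : QuasiSeparatedSpace Y :=
  have := isLocallyNoetherian_of_lft h
  inferInstance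

theorem lft_Spec_of_fg {A : Type u} [CommRing A] (B : FgSub A) :
    LocallyOfFiniteType (Limits.IsTerminal.from specULiftZIsTerminal (Spec (CommRingCat.of B.1))) := by
  let φ : CommRingCat.of (ULift.{u} ℤ) ⟶ CommRingCat.of B.1 :=
    CommRingCat.ofHom ((Int.castRingHom B.1).comp ULift.ringEquiv.toRingHom)
  rw [specULiftZIsTerminal.hom_ext (Limits.IsTerminal.from specULiftZIsTerminal _) (Spec.map φ),
    HasRingHomProperty.Spec_iff (P := @LocallyOfFiniteType)]
  refine RingHom.FiniteType.of_comp_finiteType (f := ULift.ringEquiv.symm.toRingHom) ?_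
  have : Algebra.FiniteType ℤ B.1 := B.1.fg_iff_finiteType.1 B.2
  have e : φ.hom.comp ULift.ringEquiv.symm.toRingHom = algebraMap ℤ B.1 := RingHom.ext_int _ _
  rw [e]
  exact RingHom.finiteType_algebraMap.2 this

theorem std_of_cover {X Y : Scheme.{u}} (f : X ⟶ Y) [QuasiCompact f]
    (h : ∀ y : Y, ∃ O : Y.affineOpens, y ∈ (O : Y.Opens) ∧ Function.Injective (f.app O)) :
    IsSchemeTheoreticallyDominant f := by
  choose O hyO hO using h
  refine ⟨Scheme.IdealSheafData.ext_of_iSup_eq_top O ?_ fun y => ?_⟩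
  · exact top_le_iff.1 fun y _ => TopologicalSpace.Opens.mem_iSup.2 ⟨y, hyO y⟩
  · rw [Scheme.Hom.ker_apply, Scheme.IdealSheafData.ideal_bot]
    exact (RingHom.injective_iff_ker_eq_bot _).1 (hO y)

theorem std_Spec_map {R S : CommRingCat.{u}} (φ : R ⟶ S) (h : Function.Injective φ) :
    IsSchemeTheoreticallyDominant (Spec.map φ) := by
  refine std_of_cover _ fun y => ⟨⟨⊤, isAffineOpen_top _⟩, trivial, ?_⟩
  have e : (Spec.map φ).appTop = (Scheme.ΓSpecIso R).hom ≫ φ ≫ (Scheme.ΓSpecIso S).inv := by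
    simp
  show Function.Injective (Spec.map φ).appTop
  rw [e]
  exact ((Scheme.ΓSpecIso S).symm.commRingCatIsoToRingEquiv.injective.comp h).comp
    (Scheme.ΓSpecIso R).commRingCatIsoToRingEquiv.injective

theorem hasApprox_of_iso {X Y : Scheme.{u}} (e : X ≅ Y) (h : HasApprox X) : HasApprox Y := by
  obtain ⟨I, _, _, _, D, π, hl, h1, h2, h3⟩ := h
  refine ⟨I, inferInstance, inferInstance, inferInstance, D, (Functor.const Iᵒᵖ).map e.inv ≫ π,
    hl.ofIsoLimit (Cone.ext e (by intro j; simp)), h1, h2, fun i => ?_⟩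
  have := h3 i
  exact inferInstanceAs (IsSchemeTheoreticallyDominant (e.inv ≫ π.app i))

theorem hasApprox_Spec (A : Type u) [CommRing A] : HasApprox (Spec (CommRingCat.of A)) := by
  have : IsDirected (FgSub A) (fun a b => a ≤ b) :=
    ⟨fun B C => ⟨⟨B.1 ⊔ C.1, B.2.sup C.2⟩, (le_sup_left : B.1 ≤ B.1 ⊔ C.1), (le_sup_right : C.1 ≤ B.1 ⊔ C.1)⟩⟩
  have : Nonempty (FgSub A) := ⟨⟨⊥, Subalgebra.fg_bot⟩⟩
  refine ⟨FgSub A, inferInstance, inferInstance, inferInstance, fgDiagram A, (fgCone A).π, fgIsLimit A,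
    fun i j f => inferInstance, fun i => ⟨inferInstanceAs (CompactSpace (Spec (CommRingCat.of i.unop.1))), lft_Spec_of_fg i.unop⟩,
    fun i => ?_⟩
  exact std_Spec_map (CommRingCat.ofHom (algebraMap i.unop.1 A)) Subtype.val_injective

theorem hasApprox_of_isAffine (X : Scheme.{u}) [IsAffine X] : HasApprox X :=
  hasApprox_of_iso X.isoSpec.symm (hasApprox_Spec Γ(X, ⊤))

theorem final_of_cofinal {J I : Type u} [Preorder J] [Preorder I] [IsDirected J (fun a b => a ≤ b)] [Nonempty J]
    (F : J →o I) (hF : ∀ i : I, ∃ j : J, i ≤ F j) : F.monotone.functor.op.Initial := by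
  have : F.monotone.functor.Final := by
    rw [Monotone.final_functor_iff]
    exact hF
  infer_instance

end Groth.Agent.AbsApprox
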