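import Groth.Agent.AbsApprox.IntegralImage
import Groth.Agent.LimModel.Main
import Groth.Agent.LimMore.OverBase
import Groth.Agent.S0021

/-!
Chevalley's affineness theorem without noetherian hypotheses.
-/

set_option autoImplicit false
set_option backward.isDefEq.respectTransparency false
universe u
open CategoryTheory CategoryTheory.Limits AlgebraicGeometry Opposite

namespace Groth.Agent.AbsApprox

theorem isAffine_of_integral_surjective {X S : Scheme.{u}} (f : X ⟶ S) [IsIntegralHom f] [Surjective f] [IsAffine X]
    [CompactSpace S] [QuasiSeparatedSpace S] : IsAffine S := by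
  obtain ⟨W, w, _, _, _, _⟩ := exists_finite_fp_surjective f
  obtain ⟨I, _, _, _, D, π, hl, h1, h2, h3⟩ := hasApprox S
  let c : Cone D := Cone.mk S π
  have : IsCofiltered Iᵒᵖ := isCofiltered_op_of_isFiltered _
  have : ∀ {i j : Iᵒᵖ} (a : i ⟶ j), IsAffineHom (D.map a) := fun a => h1 _ _ a
  have : ∀ i, CompactSpace (D.obj i) := fun i => (h2 i).1
  have : ∀ i, IsLocallyNoetherian (D.obj i) := fun i => isLocallyNoetherian_of_lft (h2 i).2
  obtain ⟨j, Wj, wj, g, hw1, hw2, hw3, hsq⟩ := LimModel.exists_model D c hl (a := (w : W ⟶ c.pt))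
  obtain ⟨l₁, hl₁⟩ := LimMore.exists_isFinite_of_compactSpace D c hl wj (𝟙 _) (LimMore.isPullback_id D c) hsq
  have hfin := (LimMore.stageMap_id_iff D wj @IsFinite l₁).1 hl₁
  have : CompactSpace Wj := QuasiCompact.compactSpace_of_compactSpace wj
  have : QuasiSeparatedSpace Wj := quasiSeparatedSpace_of_quasiSeparated wj
  let T := LimDesc.tower D wj
  have : ∀ l, CompactSpace (T.obj l) := fun l => LimDesc.compactSpace_stage D wj l
  have : ∀ l, QuasiSeparatedSpace (T.obj l) := fun l => LimDesc.quasiSeparatedSpace_stage D wj l
  have : IsAffine (LimDesc.towerCone D wj c hsq).pt := ‹IsAffine W›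
  obtain ⟨l₂, hl₂⟩ := Scheme.exists_isAffine_of_isLimit T _ (LimDesc.isLimitTowerCone D wj c hsq hl)
  obtain ⟨l, a₁, a₂, -⟩ := IsCofilteredOrEmpty.cone_objs l₁ l₂
  have hfinl : IsFinite (LimDesc.toStage D wj l) :=
    MorphismProperty.of_isPullback (LimDesc.isPullback_trans D wj a₁) hfin
  have : IsAffine (T.obj l₂) := hl₂
  have : IsAffineHom (T.map a₂) := LimDesc.isAffineHom_tower_map D wj a₂
  have : IsAffine (LimDesc.stage D wj l) := isAffine_of_isAffineHom (T.map a₂)
  have := h3 l.left
  have := isAffineHom_π_app D c hl l.left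
  have : IsDominant (c.π.app l.left) := by
    have : IsSchemeTheoreticallyDominant (c.π.app l.left) := h3 l.left
    infer_instance
  have : Surjective (LimDesc.toStage D wj l) := ⟨fun y => by
    have hcl : IsClosed (Set.range (LimDesc.toStage D wj l)) := (LimDesc.toStage D wj l).isClosedMap.isClosed_range
    have hsub : Set.range (c.π.app l.left) ⊆ Set.range (LimDesc.toStage D wj l) := by
      rintro _ ⟨s, rfl⟩
      obtain ⟨x, hx⟩ := w.surjective s
      refine ⟨LimDesc.proj D wj c hsq l x, ?_⟩
      rw [← Scheme.Hom.comp_apply, LimDesc.proj_toStage, Scheme.Hom.comp_apply]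
      exact congrArg (c.π.app l.left) hx
    have := hcl.closure_subset_iff.2 hsub
    rw [(c.π.app l.left).denseRange.closure_range] at this
    exact this (Set.mem_univ y)⟩
  have : IsNoetherian (D.obj l.left) := {}
  have : IsAffine (D.obj l.left) := Groth.Agent.S0021.result (LimDesc.toStage D wj l)
  exact (isAffine_of_isAffineHom (c.π.app l.left) : IsAffine c.pt)

theorem isSeparated_of_surjective {X S : Scheme.{u}} (f : X ⟶ S) [UniversallyClosed f] [Surjective f]
    [X.IsSeparated] : S.IsSeparated := by
  constructor
  let h := terminal.from S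
  let R := f ≫ h
  have : IsSeparated R := by
    rw [show R = terminal.from X from terminal.hom_ext _ _]
    exact Scheme.IsSeparated.isSeparated_terminal_from
  let m : pullback R R ⟶ pullback h h := pullback.map R R h h f f (𝟙 _) (Category.comp_id _) (Category.comp_id _)
  have hfac : pullback.diagonal R ≫ m = f ≫ pullback.diagonal h := by
    apply pullback.hom_ext
    · rw [Category.assoc, pullback.lift_fst, pullback.diagonal_fst_assoc, Category.assoc, pullback.diagonal_fst,
        Category.comp_id]
    · rw [Category.assoc, pullback.lift_snd, pullback.diagonal_snd_assoc, Category.assoc, pullback.diagonal_snd,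
        Category.comp_id]
  have : UniversallyClosed m := MorphismProperty.pullbackMap (P := @UniversallyClosed) ‹_› ‹_› rfl rfl
  have hrange : Set.range (pullback.diagonal h) = m '' Set.range (pullback.diagonal R) := by
    rw [← Set.range_comp]
    ext x
    constructor
    · rintro ⟨v, rfl⟩
      obtain ⟨r, rfl⟩ := f.surjective v
      exact ⟨r, by rw [Function.comp_apply, ← Scheme.Hom.comp_apply, hfac, Scheme.Hom.comp_apply]⟩
    · rintro ⟨r, rfl⟩
      exact ⟨f r, by rw [Function.comp_apply, ← Scheme.Hom.comp_apply, ← hfac, Scheme.Hom.comp_apply]⟩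
  refine ⟨IsClosedImmersion.of_isPreimmersion _ ?_⟩
  rw [hrange]
  exact m.isClosedMap _ (pullback.diagonal R).isClosedEmbedding.isClosed_range

/-- the image of an affine scheme under a universally closed surjective morphism is affine -/
theorem isAffine_of_universallyClosed {X S : Scheme.{u}} (f : X ⟶ S) [IsAffine X] [Surjective f]
    [UniversallyClosed f] : IsAffine S := by
  have := isSeparated_of_surjective f
  have : CompactSpace S := ⟨by rw [← f.surjective.range_eq]; exact isCompact_range f.continuous⟩
  have : IsAffineHom (f ≫ terminal.from S) := by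
    rw [terminal.comp_from f]; infer_instance
  have : IsAffineHom f := IsAffineHom.of_comp f (terminal.from S)
  have : IsIntegralHom f := (IsIntegralHom.iff_universallyClosed_and_isAffineHom (f := f)).2 ⟨inferInstance, inferInstance⟩
  exact isAffine_of_integral_surjective f

end Groth.Agent.AbsApprox
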