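import Groth.Agent.AbsApprox.Immersion
import Groth.Agent.LimClosed.FTIdeals

/-!
A scheme of finite type over a quasi-separated base is the limit of the finitely presented closed
subschemes of an ambient scheme of finite presentation.
-/

set_option autoImplicit false
set_option backward.isDefEq.respectTransparency false
universe u
open CategoryTheory CategoryTheory.Limits AlgebraicGeometry Opposite

namespace Groth.Agent.AbsApprox

variable {X X' S : Scheme.{u}} (f : X ⟶ S) (f' : X' ⟶ S) (j : X ⟶ X') [IsClosedImmersion j] (w : j ≫ f' = f)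

/-- the finitely presented closed subschemes, over the base -/
noncomputable def closedDiagram : (LimClosed.FTBelow j.ker)ᵒᵖ ⥤ Over S :=
  LimClosed.diagram j.ker ⋙ Over.map f'

/-- the cone -/
noncomputable def closedCone : Cone (closedDiagram f' j) where
  pt := Over.mk f
  π :=
  { app := fun L => Over.homMk ((LimClosed.cone j.ker j rfl).π.app L).left (by
      show ((LimClosed.cone j.ker j rfl).π.app L).left ≫ ((LimClosed.diagram j.ker).obj L).hom ≫ f' = f
      rw [Over.w_assoc]
      exact w)
    naturality := fun L L' a => by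
      ext1
      refine (Category.id_comp _).trans ?_
      exact ((congrArg CommaMorphism.left ((LimClosed.cone j.ker j rfl).π.naturality a)).symm.trans
        (Category.id_comp _)).symm }

/-- the cone is a limit -/
noncomputable def isLimitClosedCone [CompactSpace X'] [QuasiSeparatedSpace X'] : IsLimit (closedCone f f' j w) := by
  let D := LimClosed.diagram j.ker
  have hD : IsLimit (LimClosed.cone j.ker j rfl) := LimClosed.isLimitCone j.ker j rfl
  let L₀ : (LimClosed.FTBelow j.ker)ᵒᵖ := op (Classical.arbitrary _)
  have hpath : ∀ (s : Cone (closedDiagram f' j)) (L : (LimClosed.FTBelow j.ker)ᵒᵖ),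
      (s.π.app L).left ≫ (D.obj L).hom = (s.π.app L₀).left ≫ (D.obj L₀).hom := by
    intro s L
    obtain ⟨M, hM, hM'⟩ := exists_ge_ge L.unop L₀.unop
    have key : ∀ {M N : (LimClosed.FTBelow j.ker)ᵒᵖ} (a : M ⟶ N),
        (s.π.app N).left ≫ (D.obj N).hom = (s.π.app M).left ≫ (D.obj M).hom := fun {M N} a => by
      have h1 : (s.π.app M).left ≫ (D.map a).left = (s.π.app N).left := congrArg CommaMorphism.left (s.w a)
      rw [← h1, Category.assoc, Over.w (D.map a)]
    exact (key (homOfLE hM).op).trans (key (homOfLE hM').op).symm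
  let s' : Cone (closedDiagram f' j) → Cone D := fun s =>
    { pt := Over.mk ((s.π.app L₀).left ≫ (D.obj L₀).hom)
      π :=
      { app := fun L => Over.homMk (s.π.app L).left (hpath s L)
        naturality := fun L L' a => by
          ext1
          refine (Category.id_comp _).trans ?_
          exact (congrArg CommaMorphism.left (s.w a)).symm } }
  refine
    { lift := fun s => Over.homMk (hD.lift (s' s)).left ?_
      fac := fun s L => ?_
      uniq := fun s m hm => ?_ }
  · have h1 : (hD.lift (s' s)).left ≫ j = (s.π.app L₀).left ≫ (D.obj L₀).hom := Over.w (hD.lift (s' s))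
    have h2 : (s.π.app L₀).left ≫ (D.obj L₀).hom ≫ f' = s.pt.hom := Over.w (s.π.app L₀)
    show (hD.lift (s' s)).left ≫ f = s.pt.hom
    rw [← w, reassoc_of% h1, h2]
  · ext1
    exact (congrArg CommaMorphism.left (hD.fac (s' s) L) :)
  · ext1
    rw [← cancel_mono j]
    refine Eq.trans ?_ (Over.w (hD.lift (s' s))).symm
    show m.left ≫ j = (s.π.app L₀).left ≫ (D.obj L₀).hom
    rw [← hm L₀]
    exact congrArg (m.left ≫ ·) (Over.w ((LimClosed.cone j.ker j rfl).π.app L₀)).symm

theorem lfp_closedDiagram [CompactSpace X'] [QuasiSeparatedSpace X'] [LocallyOfFinitePresentation f']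
    (L : (LimClosed.FTBelow j.ker)ᵒᵖ) : LocallyOfFinitePresentation ((closedDiagram f' j).obj L).hom :=
  haveI := LimClosed.lfp_diagram j.ker L
  inferInstanceAs (LocallyOfFinitePresentation (((LimClosed.diagram j.ker).obj L).hom ≫ f'))

instance (L : (LimClosed.FTBelow j.ker)ᵒᵖ) : IsClosedImmersion ((LimClosed.diagram j.ker).obj L).hom :=
  LimClosed.isClosedImmersion_diagram j.ker L

theorem isClosedImmersion_closedDiagram_map {L L' : (LimClosed.FTBelow j.ker)ᵒᵖ} (a : L ⟶ L') :
    IsClosedImmersion ((closedDiagram f' j).map a).left :=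
  LimClosed.isClosedImmersion_map j.ker a

theorem isClosedImmersion_closedCone (L : (LimClosed.FTBelow j.ker)ᵒᵖ) :
    IsClosedImmersion ((closedCone f f' j w).π.app L).left := by
  have h : ((LimClosed.cone j.ker j rfl).π.app L).left ≫ ((LimClosed.diagram j.ker).obj L).hom = j :=
    Over.w ((LimClosed.cone j.ker j rfl).π.app L)
  haveI : IsClosedImmersion (((LimClosed.cone j.ker j rfl).π.app L).left ≫ ((LimClosed.diagram j.ker).obj L).hom) := by
    rw [h]; infer_instance
  exact IsClosedImmersion.of_comp ((LimClosed.cone j.ker j rfl).π.app L).left ((LimClosed.diagram j.ker).obj L).hom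

end Groth.Agent.AbsApprox
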