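import Mathlib

/-!
Sections on a quasi-compact open of an affine scheme, up to powers of a function.
-/

set_option autoImplicit false
universe u
open CategoryTheory AlgebraicGeometry

namespace Groth.Agent.AbsApprox

variable {X : Scheme.{u}} [IsAffine X] {W : X.Opens} (hW : IsCompact (W : Set X)) (f : Γ(X, ⊤))
  (hfW : X.basicOpen f ≤ W)

include hW hfW in
theorem exists_res_eq_pow_mul (u : Γ(X, W)) :
    ∃ (N : ℕ) (a : Γ(X, ⊤)), X.presheaf.map (homOfLE le_top).op a =
      X.presheaf.map (homOfLE le_top).op f ^ N * u := by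
  obtain ⟨m, a, ha⟩ := exists_eq_pow_mul_of_isCompact_of_isQuasiSeparated X ⊤ isCompact_univ
    (IsAffineOpen.isQuasiSeparated (isAffineOpen_top X)) f (X.presheaf.map (homOfLE hfW).op u)
  let fW : Γ(X, W) := X.presheaf.map (homOfLE le_top).op f
  let v : Γ(X, W) := X.presheaf.map (homOfLE le_top).op a - fW ^ m * u
  have hb : X.basicOpen fW = X.basicOpen f := by
    rw [Scheme.basicOpen_res, inf_eq_right]; exact hfW
  obtain ⟨n, hn⟩ := exists_pow_mul_eq_zero_of_res_basicOpen_eq_zero_of_isCompact X hW v fW (by
    have key : X.presheaf.map (homOfLE hfW).op v = 0 := by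
      simp only [v, fW, map_sub, map_mul, map_pow, ← ConcreteCategory.comp_apply, ← Functor.map_comp, sub_eq_zero]
      simp only [TopCat.Presheaf.restrictOpenCommRingCat_apply] at ha
      exact ha
    have := congrArg (fun z => X.presheaf.map (eqToHom hb).op z) key
    simp only [map_zero, ← ConcreteCategory.comp_apply, ← Functor.map_comp] at this
    simp only [TopCat.Presheaf.restrictOpenCommRingCat_apply]
    exact this)
  refine ⟨n + m, f ^ n * a, ?_⟩
  rw [map_mul, map_pow, pow_add, mul_assoc, ← sub_eq_zero, ← mul_sub]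
  exact hn

include hfW in
theorem exists_pow_mul_eq_zero_of_res (a : Γ(X, ⊤)) (h : X.presheaf.map (homOfLE (le_top : W ≤ ⊤)).op a = 0) :
    ∃ N : ℕ, f ^ N * a = 0 := by
  refine exists_pow_mul_eq_zero_of_res_basicOpen_eq_zero_of_isCompact X (U := ⊤) isCompact_univ a f ?_
  have := congrArg (fun z => X.presheaf.map (homOfLE hfW).op z) h
  simp only [map_zero, ← ConcreteCategory.comp_apply, ← Functor.map_comp] at this
  simp only [TopCat.Presheaf.restrictOpenCommRingCat_apply]
  exact this

end Groth.Agent.AbsApprox
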