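import Groth.Agent.AbsApprox.Setup
import Groth.Agent.AbsApprox.Loc

/-!
The gluing pairs are cofinal.
-/

set_option autoImplicit false
set_option backward.isDefEq.respectTransparency false
universe u
open CategoryTheory CategoryTheory.Limits AlgebraicGeometry Opposite

open Groth.Agent.LimModel (FgSub)

namespace Groth.Agent.AbsApprox

theorem isIso_restrict {X Y : Scheme.{u}} (θ : X ⟶ Y) {U : Y.Opens} (hU : IsAffineOpen U)
    (hX : IsAffineOpen (θ ⁻¹ᵁ U)) (h : Function.Bijective (θ.app U)) : IsIso (θ ∣_ U) := by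
  have : IsAffine U.toScheme := hU
  refine (HasAffineProperty.iff_of_isAffine (P := MorphismProperty.isomorphisms Scheme.{u})).2 ⟨hX, ?_⟩
  have h' : IsIso (θ.app U) := (ConcreteCategory.isIso_iff_bijective _).2 h
  refine Iff.mpr ?_ h'
  rw [Scheme.Hom.app_eq_appLE]
  simp only [morphismRestrict_app', TopologicalSpace.Opens.map_top]
  congr! <;> simp [Scheme.Opens.toScheme_presheaf_obj]

theorem finiteType_sections {Y : Scheme.{u}}
    (h : LocallyOfFiniteType (Limits.IsTerminal.from specULiftZIsTerminal Y)) {O : Y.Opens} (hO : IsAffineOpen O) :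
    Algebra.FiniteType ℤ Γ(Y, O) := by
  have h1 : ((Limits.IsTerminal.from specULiftZIsTerminal Y).appLE ⊤ O le_top).hom.FiniteType :=
    LocallyOfFiniteType.finiteType_appLE _ (isAffineOpen_top _) hO _
  let e : ℤ →+* Γ(Spec (CommRingCat.of (ULift.{u} ℤ)), ⊤) :=
    ((Scheme.ΓSpecIso (CommRingCat.of (ULift.{u} ℤ))).inv.hom).comp ULift.ringEquiv.symm.toRingHom
  have he : Function.Surjective e :=
    (Scheme.ΓSpecIso (CommRingCat.of (ULift.{u} ℤ))).symm.commRingCatIsoToRingEquiv.surjective.comp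
      ULift.ringEquiv.symm.surjective
  have h2 : e.FiniteType := RingHom.FiniteType.of_surjective e he
  have h3 := h1.comp h2
  rw [RingHom.ext_int (RingHom.comp _ e) (algebraMap ℤ Γ(Y, O))] at h3
  exact RingHom.finiteType_algebraMap.1 h3

namespace StepData

variable (d : StepData.{u})

instance (i : d.Iᵒᵖ) : CompactSpace (d.DW.obj i) := inferInstanceAs (CompactSpace (d.Wo i).toScheme)
instance (i : d.Iᵒᵖ) : QuasiSeparatedSpace (d.DW.obj i) := inferInstanceAs (QuasiSeparatedSpace (d.Wo i).toScheme)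

instance (i : d.Iᵒᵖ) : IsLocallyNoetherian (d.DW.obj i) := inferInstanceAs (IsLocallyNoetherian (d.Wo i).toScheme)

instance {i j : d.Iᵒᵖ} (f : i ⟶ j) : IsAffineHom (d.DW.map f) :=
  MorphismProperty.of_isPullback (P := @IsAffineHom)
    (IsOpenImmersion.isPullback (d.DW.map f) (d.ιW.app i) (d.ιW.app j) (d.D.map f) (d.ιW.naturality f).symm
      (TopologicalSpace.Opens.ext (d.range_ιW f))).flip inferInstance

theorem isCofiltered' : IsCofiltered d.Iᵒᵖ := isCofiltered_op_of_isFiltered _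

theorem exists_ge_forall_mem (i : d.I) (t : Finset Γ(d.W.toScheme, ⊤)) :
    ∃ j, i ≤ j ∧ ∀ x ∈ t, x ∈ (d.ρ (op j)).range := by
  classical
  induction t using Finset.induction with
  | empty => exact ⟨i, le_rfl, by simp⟩
  | insert x t _ ih =>
    obtain ⟨j, hij, hj⟩ := ih
    have := d.isCofiltered'
    obtain ⟨⟨k⟩, y, hy⟩ := exists_appTop_π_eq_of_isLimit d.DW d.cW d.isLimitCW (show Γ(d.cW.pt, ⊤) from x)
    obtain ⟨l, hl, hl'⟩ := exists_ge_ge j k
    refine ⟨l, hij.trans hl, fun z hz => ?_⟩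
    rcases Finset.mem_insert.1 hz with rfl | hz
    · exact d.range_ρ_mono (homOfLE hl').op ⟨y, hy.symm⟩
    · exact d.range_ρ_mono (homOfLE hl).op (hj z hz)

/-- the restriction of a function to the common open, as a basic open -/
theorem basicOpen_r (f : d.A) :
    d.W.toScheme.basicOpen (d.r f) = d.W.ι ⁻¹ᵁ (PrimeSpectrum.basicOpen f) := by
  exact (Scheme.preimage_basicOpen_top d.W.ι _).symm.trans
    (congrArg (d.W.ι ⁻¹ᵁ ·) (basicOpen_eq_of_affine (R := CommRingCat.of d.A) f))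

theorem basicOpen_le {f : d.A} (hf : f ∈ d.s) : PrimeSpectrum.basicOpen f ≤ d.W :=
  d.hs ▸ le_iSup₂ (f := fun f (_ : f ∈ d.s) => PrimeSpectrum.basicOpen f) f hf

theorem iSup_basicOpen_r : (⨆ f ∈ d.s, d.W.toScheme.basicOpen (d.r f)) = ⊤ := by
  simp only [basicOpen_r, ← Scheme.Hom.preimage_iSup, ← d.hs, Scheme.Opens.ι_preimage_self]

theorem preimage_basicOpen_ρ {i : d.Iᵒᵖ} (g : Γ((d.Wo i).toScheme, ⊤)) :
    d.pW i ⁻¹ᵁ (d.Wo i).toScheme.basicOpen g = d.W.toScheme.basicOpen (d.ρ i g) :=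
  Scheme.preimage_basicOpen_top _ _

theorem exists_affine_cover (i : d.I) :
    ∃ (j : d.I) (g : d.A → Γ((d.Wo (op j)).toScheme, ⊤)), i ≤ j ∧ (∀ f ∈ d.s, d.ρ (op j) (g f) = d.r f) ∧
      (⨆ f ∈ d.s, (d.Wo (op j)).toScheme.basicOpen (g f)) = ⊤ ∧
      ∀ f ∈ d.s, IsAffineOpen ((d.Wo (op j)).toScheme.basicOpen (g f)) := by
  classical
  have := d.isCofiltered'
  obtain ⟨j, hij, hj⟩ := d.exists_ge_forall_mem i (d.s.image d.r)
  let g : d.A → Γ((d.Wo (op j)).toScheme, ⊤) := Function.invFun (d.ρ (op j)) ∘ d.r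
  have hg : ∀ f ∈ d.s, d.ρ (op j) (g f) = d.r f := fun f hf =>
    Function.invFun_eq (hj _ (Finset.mem_image_of_mem _ hf))
  -- the opens cover at a later stage
  obtain ⟨⟨k⟩, φ, hφ⟩ := exists_map_eq_top d.DW d.cW d.isLimitCW (i := op j)
    (⨆ f ∈ d.s, (d.Wo (op j)).toScheme.basicOpen (g f)) (by
      rw [← top_le_iff, ← d.iSup_basicOpen_r]
      refine iSup₂_le fun f hf => ?_
      rw [← hg f hf, ← preimage_basicOpen_ρ]
      exact Scheme.Hom.preimage_mono _ (le_iSup₂ (f := fun f (_ : f ∈ d.s) => (d.Wo (op j)).toScheme.basicOpen (g f)) f hf))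
  -- and become affine
  have haff : ∀ f ∈ d.s, ∃ l : Over (op j), IsAffineOpen (d.DW.map l.hom ⁻¹ᵁ (d.Wo (op j)).toScheme.basicOpen (g f)) := by
    intro f hf
    let O : (d.DW.obj (op j)).Opens := (d.Wo (op j)).toScheme.basicOpen (g f)
    have hOc : IsCompact (O : Set (d.DW.obj (op j))) :=
      have : IsNoetherian (d.DW.obj (op j)) := {}
      TopologicalSpace.NoetherianSpace.isCompact _
    have (l : Over (op j)) : CompactSpace ((opensDiagram d.DW (op j) O).obj l) :=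
      isCompact_iff_compactSpace.mp ((d.DW.map l.hom).isCompact_preimage hOc)
    have (l : Over (op j)) : QuasiSeparatedSpace ((opensDiagram d.DW (op j) O).obj l) :=
      inferInstanceAs (QuasiSeparatedSpace (d.DW.map l.hom ⁻¹ᵁ O).toScheme)
    have : IsAffine (opensCone d.DW d.cW (op j) O).pt := by
      show IsAffineOpen (d.pW (op j) ⁻¹ᵁ (d.Wo (op j)).toScheme.basicOpen (g f))
      rw [preimage_basicOpen_ρ, hg f hf, basicOpen_r]
      have hb : (Spec (CommRingCat.of d.A)).basicOpen ((Scheme.ΓSpecIso (CommRingCat.of d.A)).inv f) =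
          PrimeSpectrum.basicOpen f := basicOpen_eq_of_affine (R := CommRingCat.of d.A) f
      refine IsAffineOpen.preimage_of_isOpenImmersion ?_ d.W.ι ?_
      · rw [← hb]; exact (isAffineOpen_top _).basicOpen _
      · rw [Scheme.Opens.opensRange_ι]; exact d.basicOpen_le hf
    exact Scheme.exists_isAffine_of_isLimit _ _ (isLimitOpensCone d.DW d.cW d.isLimitCW (op j) O)
  choose l' hl' using haff
  let l : d.A → Over (op j) := fun f => if hf : f ∈ d.s then l' f hf else Over.mk φ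
  have hl : ∀ f ∈ d.s, IsAffineOpen (d.DW.map (l f).hom ⁻¹ᵁ (d.Wo (op j)).toScheme.basicOpen (g f)) := fun f hf => by
    rw [show l f = l' f hf from dif_pos hf]; exact hl' f hf
  obtain ⟨m', hm'⟩ := IsCofiltered.inf_objs_exists (insert (Over.mk φ) (d.s.image l))
  let m : d.I := m'.left.unop
  have hpre : ∀ f : d.A, d.DW.map m'.hom ⁻¹ᵁ (d.Wo (op j)).toScheme.basicOpen (g f) =
      (d.Wo (op m)).toScheme.basicOpen ((d.DW.map m'.hom).appTop (g f)) := fun f => Scheme.preimage_basicOpen_top _ _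
  refine ⟨m, fun f => (d.DW.map m'.hom).appTop (g f), hij.trans (leOfHom m'.hom.unop), fun f hf => ?_, ?_, fun f hf => ?_⟩
  · exact (d.ρ_map m'.hom (g f)).trans (hg f hf)
  · have e : m' ⟶ Over.mk φ := (hm' (Finset.mem_insert_self _ _)).some
    have : (d.DW.map m'.hom) ⁻¹ᵁ (⨆ f ∈ d.s, (d.Wo (op j)).toScheme.basicOpen (g f)) = ⊤ := by
      rw [← Over.w e, Functor.map_comp, Scheme.Hom.comp_preimage]
      erw [hφ]
      rfl
    simp only [Scheme.Hom.preimage_iSup] at this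
    refine Eq.trans ?_ this
    exact iSup_congr fun f => iSup_congr fun _ => (hpre f).symm
  · have e : m' ⟶ l f := (hm' (Finset.mem_insert_of_mem (Finset.mem_image_of_mem l hf))).some
    have h := (hl f hf).preimage (d.DW.map e.left)
    rw [← Scheme.Hom.comp_preimage, ← Functor.map_comp, Over.w e] at h
    exact (hpre f) ▸ h

theorem r_apply (a : d.A) :
    d.r a = (Spec (CommRingCat.of d.A)).presheaf.map (homOfLE le_top).op ((Scheme.ΓSpecIso (CommRingCat.of d.A)).inv a) := by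
  show d.W.ι.appTop.hom _ = _
  rw [Scheme.Opens.ι_appTop]
  rfl

theorem exists_r_eq {f : d.A} (hf : f ∈ d.s) (u : Γ(d.W.toScheme, ⊤)) :
    ∃ (N : ℕ) (a : d.A), d.r a = d.r f ^ N * u := by
  have hW : IsCompact (SetLike.coe (d.W.ι ''ᵁ ⊤ : (Spec (CommRingCat.of d.A)).Opens)) := by
    rw [Scheme.Opens.ι_image_top, d.hs]
    simp only [TopologicalSpace.Opens.coe_iSup]
    exact d.s.finite_toSet.isCompact_biUnion fun f _ => PrimeSpectrum.isCompact_basicOpen f
  have hle : (Spec (CommRingCat.of d.A)).basicOpen ((Scheme.ΓSpecIso (CommRingCat.of d.A)).inv f) ≤ d.W.ι ''ᵁ ⊤ := by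
    rw [Scheme.Opens.ι_image_top]
    exact (basicOpen_eq_of_affine (R := CommRingCat.of d.A) f).trans_le (d.basicOpen_le hf)
  obtain ⟨N, a, ha⟩ := exists_res_eq_pow_mul hW _ hle (show Γ(Spec (CommRingCat.of d.A), d.W.ι ''ᵁ ⊤) from u)
  refine ⟨N, (Scheme.ΓSpecIso (CommRingCat.of d.A)).hom a, ?_⟩
  rw [r_apply, r_apply, Iso.hom_inv_id_apply]
  exact ha

theorem exists_pow_mul_eq_zero {f : d.A} (hf : f ∈ d.s) {a : d.A} (h : d.r a = 0) : ∃ N : ℕ, f ^ N * a = 0 := by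
  have hle : (Spec (CommRingCat.of d.A)).basicOpen ((Scheme.ΓSpecIso (CommRingCat.of d.A)).inv f) ≤ d.W.ι ''ᵁ ⊤ := by
    rw [Scheme.Opens.ι_image_top]
    exact (basicOpen_eq_of_affine (R := CommRingCat.of d.A) f).trans_le (d.basicOpen_le hf)
  rw [r_apply] at h
  obtain ⟨N, hN⟩ := exists_pow_mul_eq_zero_of_res _ hle _ h
  refine ⟨N, (Scheme.ΓSpecIso (CommRingCat.of d.A)).symm.commRingCatIsoToRingEquiv.injective ?_⟩
  show (Scheme.ΓSpecIso (CommRingCat.of d.A)).inv (f ^ N * a) = (Scheme.ΓSpecIso (CommRingCat.of d.A)).inv 0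
  rw [map_mul, map_pow, map_zero, hN]

/-- **The gluing pairs are cofinal.** -/
theorem exists_good (i : d.I) (B₀ : FgSub d.A) : ∃ (k : d.I) (B : FgSub d.A), i ≤ k ∧ B₀ ≤ B ∧ d.Good k B := by
  classical
  obtain ⟨G₀, hG₀⟩ := B₀.2
  obtain ⟨i', hii', hi'⟩ := d.exists_ge_forall_mem i (G₀.image d.r)
  obtain ⟨j, g, hij, hg, hcov, haff⟩ := d.exists_affine_cover i'
  let T := (d.Wo (op j)).toScheme
  let R : Subalgebra ℤ d.A := subalgebraOfSubring ((d.ρ (op j)).range.comap d.r)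
  have hs : ∀ f ∈ d.s, f ∈ R := fun f hf => ⟨g f, hg f hf⟩
  have hG : ∀ x ∈ G₀, x ∈ R := fun x hx =>
    d.range_ρ_mono (homOfLE hij).op (hi' _ (Finset.mem_image_of_mem _ hx))
  -- numerators of generators
  have hlft : LocallyOfFiniteType (Limits.IsTerminal.from specULiftZIsTerminal T) := by
    have h1 : LocallyOfFiniteType (Limits.IsTerminal.from specULiftZIsTerminal (d.D.obj (op j))) := (d.ft (op j)).2
    rw [specULiftZIsTerminal.hom_ext (Limits.IsTerminal.from specULiftZIsTerminal T)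
      ((d.Wo (op j)).ι ≫ Limits.IsTerminal.from specULiftZIsTerminal (d.D.obj (op j)))]
    infer_instance
  have hgen : ∀ f ∈ d.s, ∃ E : Finset Γ(T, T.basicOpen (g f)), Algebra.adjoin ℤ (E : Set Γ(T, T.basicOpen (g f))) = ⊤ :=
    fun f hf => (finiteType_sections hlft (haff f hf)).out
  choose E hE using hgen
  have hnum : ∀ (f : d.A) (hf : f ∈ d.s) (x : Γ(T, T.basicOpen (g f))), ∃ (M : ℕ) (z : Γ(T, ⊤)) (y : d.A),
      d.r y = d.ρ (op j) z ∧ z |_ T.basicOpen (g f) = (g f |_ T.basicOpen (g f)) ^ M * x := by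
    intro f hf x
    obtain ⟨n, z, hz⟩ := exists_eq_pow_mul_of_isCompact_of_isQuasiSeparated T ⊤ isCompact_univ
      (isQuasiSeparated_univ_iff.mpr (inferInstanceAs (QuasiSeparatedSpace (d.DW.obj (op j))))) (g f) x
    obtain ⟨N, a, ha⟩ := d.exists_r_eq hf (d.ρ (op j) z)
    refine ⟨N + n, g f ^ N * z, a, ?_, ?_⟩
    · rw [ha, map_mul, map_pow, hg f hf]
    · simp only [TopCat.Presheaf.restrictOpenCommRingCat_apply, map_mul, map_pow] at hz ⊢
      rw [hz, pow_add, mul_assoc]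
  choose M z y hy hz using hnum
  let ys : Finset d.A := d.s.attach.biUnion fun f => (E f.1 f.2).image (y f.1 f.2)
  let B : FgSub d.A := ⟨Algebra.adjoin ℤ ((↑(G₀ ∪ d.s ∪ ys) : Set d.A)), Subalgebra.fg_adjoin_finset _⟩
  have hBR : B.1 ≤ R := Algebra.adjoin_le fun x hx => by
    rcases Finset.mem_union.1 hx with hx | hx
    · rcases Finset.mem_union.1 hx with hx | hx
      · exact hG x hx
      · exact hs x hx
    · obtain ⟨⟨f, hf⟩, -, hx⟩ := Finset.mem_biUnion.1 hx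
      obtain ⟨e, -, rfl⟩ := Finset.mem_image.1 hx
      exact ⟨_, (hy f hf e).symm⟩
  have hsB : ∀ f ∈ d.s, f ∈ B.1 := fun f hf => Algebra.subset_adjoin (Finset.mem_union_left _ (Finset.mem_union_right _ hf))
  have hyB : ∀ (f : d.A) (hf : f ∈ d.s), ∀ e ∈ E f hf, y f hf e ∈ B.1 := fun f hf e he =>
    Algebra.subset_adjoin (Finset.mem_union_right _ (Finset.mem_biUnion.2 ⟨⟨f, hf⟩, Finset.mem_attach _ _, Finset.mem_image_of_mem _ he⟩))
  refine ⟨j, B, hii'.trans hij, ?_, hsB, ?_⟩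
  · show B₀.1 ≤ B.1
    rw [← hG₀]
    exact Algebra.adjoin_mono fun x hx => Finset.mem_union_left _ (Finset.mem_union_left _ hx)
  -- the morphism
  choose ψ₀ hψ₀ using fun b : B.1 => hBR b.2
  let ψ : B.1 →+* Γ(T, ⊤) :=
    { toFun := ψ₀
      map_one' := d.ρ_injective (op j) (by rw [hψ₀, map_one]; exact map_one d.r)
      map_mul' := fun a b => d.ρ_injective (op j) (by rw [map_mul, hψ₀, hψ₀, hψ₀]; exact map_mul d.r _ _)
      map_zero' := d.ρ_injective (op j) (by rw [hψ₀, map_zero]; exact map_zero d.r)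
      map_add' := fun a b => d.ρ_injective (op j) (by rw [map_add, hψ₀, hψ₀, hψ₀]; exact map_add d.r _ _) }
  have hψ : ∀ b : B.1, d.ρ (op j) (ψ b) = d.r b.1 := hψ₀
  let θ : T ⟶ Spec (CommRingCat.of B.1) := T.toSpecΓ ≫ Spec.map (CommRingCat.ofHom ψ)
  have hθ : θ.appTop = (Scheme.ΓSpecIso (CommRingCat.of B.1)).hom ≫ CommRingCat.ofHom ψ := by
    simp [θ]
  let F : B.1 → Γ(Spec (CommRingCat.of B.1), ⊤) := (Scheme.ΓSpecIso (CommRingCat.of B.1)).inv
  have hθF : ∀ b, θ.appTop (F b) = ψ b := fun b => by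
    rw [hθ]; exact congrArg ψ ((Scheme.ΓSpecIso (CommRingCat.of B.1)).inv_hom_id_apply b)
  have hfg : ∀ (f : d.A) (hf : f ∈ d.s), ψ ⟨f, hsB f hf⟩ = g f := fun f hf =>
    d.ρ_injective (op j) ((hψ _).trans (hg f hf).symm)
  let U : {f // f ∈ d.s} → (Spec (CommRingCat.of B.1)).Opens := fun f =>
    (Spec (CommRingCat.of B.1)).basicOpen (F ⟨f.1, hsB f.1 f.2⟩)
  have hU : ∀ f, (SetLike.coe (U f) : Set (PrimeSpectrum B.1)) = PrimeSpectrum.basicOpen (⟨f.1, hsB f.1 f.2⟩ : B.1) := fun f =>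
    congrArg (fun O : (Spec (CommRingCat.of B.1)).Opens => (SetLike.coe O : Set (PrimeSpectrum B.1)))
      (basicOpen_eq_of_affine (R := CommRingCat.of B.1) (⟨f.1, hsB f.1 f.2⟩ : B.1))
  have hpre : ∀ f : {f // f ∈ d.s}, θ ⁻¹ᵁ U f = T.basicOpen (g f.1) := fun f => by
    rw [Scheme.preimage_basicOpen_top, hθF, hfg f.1 f.2]
  have hsup : (⨆ f, θ ⁻¹ᵁ U f) = ⊤ := by
    simp only [hpre]
    exact (iSup_subtype (f := fun f : {f // f ∈ d.s} => T.basicOpen (g f.1))).trans hcov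
  have hbij : ∀ f : {f // f ∈ d.s}, Function.Bijective (θ.app (U f)) := by
    rintro ⟨f, hf⟩
    letI := ((isAffineOpen_top (Spec (CommRingCat.of B.1))).isLocalization_basicOpen (F ⟨f, hsB f hf⟩))
    let φ := (θ.app (U ⟨f, hf⟩)).hom
    have hmapT : ∀ b : B.1, φ ((F b) |_ U ⟨f, hf⟩) = (ψ b) |_ (θ ⁻¹ᵁ U ⟨f, hf⟩) := fun b => by
      rw [← hθF b]
      simp only [TopCat.Presheaf.restrictOpenCommRingCat_apply, φ, ← ConcreteCategory.comp_apply]
      exact congr($(θ.naturality (homOfLE le_top).op) (F b))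
    let e := (T.presheaf.map (eqToHom (hpre ⟨f, hf⟩).symm).op).hom
    have he : ∀ t : Γ(T, ⊤), e (t |_ (θ ⁻¹ᵁ U ⟨f, hf⟩)) = t |_ T.basicOpen (g f) := fun t => by
      simp only [TopCat.Presheaf.restrictOpenCommRingCat_apply, e, ← ConcreteCategory.comp_apply, ← Functor.map_comp]
      rfl
    have hinj : Function.Injective e := ((asIso (T.presheaf.map (eqToHom (hpre ⟨f, hf⟩).symm).op)).commRingCatIsoToRingEquiv).injective
    refine ⟨(injective_iff_map_eq_zero φ).2 fun x hx => ?_, fun x => ?_⟩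
    · obtain ⟨⟨b', ⟨_, n, rfl⟩⟩, hb⟩ := IsLocalization.surj (Submonoid.powers (F ⟨f, hsB f hf⟩)) x
      obtain ⟨b, rfl⟩ : ∃ b, F b = b' :=
        (Scheme.ΓSpecIso (CommRingCat.of B.1)).symm.commRingCatIsoToRingEquiv.surjective b'
      have hb0 : φ ((F b) |_ U ⟨f, hf⟩) = 0 := by
        refine (congrArg φ hb.symm).trans ?_
        rw [map_mul, hx, zero_mul]
      rw [hmapT] at hb0
      obtain ⟨m, hm⟩ := exists_pow_mul_eq_zero_of_res_basicOpen_eq_zero_of_isCompact T (U := ⊤) isCompact_univ (ψ b) (g f)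
        (by rw [← he, hb0, map_zero])
      have h0 : d.r ((⟨f, hsB f hf⟩ : B.1) ^ m * b).1 = 0 := by
        rw [← hψ, map_mul, map_pow, hfg f hf, hm, map_zero]
      obtain ⟨N, hN⟩ := d.exists_pow_mul_eq_zero hf h0
      have h1 : (⟨f, hsB f hf⟩ : B.1) ^ (N + m) * b = 0 := by
        rw [pow_add, mul_assoc]; exact Subtype.ext (by push_cast; simpa using hN)
      have hu : IsUnit (((F ⟨f, hsB f hf⟩) |_ U ⟨f, hf⟩)) := by
        have := IsLocalization.map_units Γ(Spec (CommRingCat.of B.1), U ⟨f, hf⟩)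
          (⟨F ⟨f, hsB f hf⟩, 1, pow_one _⟩ : Submonoid.powers (F ⟨f, hsB f hf⟩))
        exact this
      have h2 : ((F ⟨f, hsB f hf⟩) |_ U ⟨f, hf⟩) ^ (N + m) * ((F b) |_ U ⟨f, hf⟩) = 0 := by
        simp only [TopCat.Presheaf.restrictOpenCommRingCat_apply, ← map_pow, ← map_mul]
        simp only [F, ← map_pow, ← map_mul, h1, map_zero]
      rw [(hu.pow _).mul_right_eq_zero] at h2
      have h3 : x * ((F ⟨f, hsB f hf⟩) |_ U ⟨f, hf⟩) ^ n = 0 := by
        refine Eq.trans ?_ (hb.trans h2)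
        simp only [TopCat.Presheaf.restrictOpenCommRingCat_apply, map_pow]
        rfl
      exact (hu.pow n).mul_left_eq_zero.1 h3
    · have hu : IsUnit ((F ⟨f, hsB f hf⟩) |_ U ⟨f, hf⟩) :=
        IsLocalization.map_units Γ(Spec (CommRingCat.of B.1), U ⟨f, hf⟩)
          (⟨F ⟨f, hsB f hf⟩, 1, pow_one _⟩ : Submonoid.powers (F ⟨f, hsB f hf⟩))
      have hrange : (subalgebraOfSubring (e.comp φ).range : Subalgebra ℤ Γ(T, T.basicOpen (g f))) = ⊤ := by
        rw [eq_top_iff, ← hE f hf]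
        refine Algebra.adjoin_le fun w hw => ?_
        have h1 : e (φ ((F ⟨y f hf w, hyB f hf w hw⟩) |_ U ⟨f, hf⟩)) =
            (g f |_ T.basicOpen (g f)) ^ M f hf w * w := by
          rw [hmapT, he, ← hz f hf w]
          exact congrArg (· |_ T.basicOpen (g f)) (d.ρ_injective (op j) ((hψ _).trans (hy f hf w)))
        have h2 : e (φ ((F ⟨f, hsB f hf⟩) |_ U ⟨f, hf⟩)) = g f |_ T.basicOpen (g f) := by rw [hmapT, he, hfg f hf]
        refine ⟨((hu.pow (M f hf w)).unit⁻¹ : Units _) * ((F ⟨y f hf w, hyB f hf w hw⟩) |_ U ⟨f, hf⟩), ?_⟩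
        show e (φ _) = w
        rw [map_mul, map_mul, h1, ← mul_assoc, ← h2, ← map_pow, ← map_pow, ← map_mul, ← map_mul,
          IsUnit.val_inv_mul, map_one, map_one, one_mul]
      obtain ⟨v, hv⟩ : e x ∈ subalgebraOfSubring (e.comp φ).range := hrange ▸ Algebra.mem_top
      exact ⟨v, hinj hv⟩
  have hiso : ∀ f, IsIso (θ ∣_ U f) := fun f =>
    isIso_restrict θ ((isAffineOpen_top _).basicOpen _) (hpre f ▸ haff f.1 f.2) (hbij f)
  have hrg : Set.range θ = d.WB B := by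
    have h1 : d.WB B = ⋃ f, (SetLike.coe (U f) : Set (PrimeSpectrum B.1)) := by
      simp only [hU]
      ext p
      simp only [WB, Set.mem_iUnion]
      exact ⟨fun ⟨f, hf, h, hp⟩ => ⟨⟨f, hf⟩, hp⟩, fun ⟨⟨f, hf⟩, hp⟩ => ⟨f, hf, hsB f hf, hp⟩⟩
    rw [h1]
    refine subset_antisymm ?_ ?_
    · rintro _ ⟨x, rfl⟩
      obtain ⟨f, hfx⟩ := TopologicalSpace.Opens.mem_iSup.1 (hsup.ge (show x ∈ (⊤ : T.Opens) from trivial))
      exact Set.mem_iUnion.2 ⟨f, hfx⟩
    · intro p hp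
      obtain ⟨f, hf⟩ := Set.mem_iUnion.1 hp
      have := hiso f
      obtain ⟨x, hx⟩ := (asIso (θ ∣_ U f)).hom.homeomorph.surjective ⟨p, hf⟩
      refine ⟨(θ ⁻¹ᵁ U f).ι x, ?_⟩
      rw [← Scheme.Hom.comp_apply, ← morphismRestrict_ι, Scheme.Hom.comp_apply]
      exact congrArg (U f).ι hx
  refine ⟨θ, ?_, ?_, hrg⟩
  · refine ext_of_isAffine ?_
    ext b
    show d.ρ (op j) (θ.appTop b) = d.W.ι.appTop ((d.q B).appTop b)
    rw [hθ]
    show d.ρ (op j) (ψ ((Scheme.ΓSpecIso (CommRingCat.of B.1)).hom b)) = d.W.ι.appTop ((d.q B).appTop b)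
    rw [hψ]
    show d.W.ι.appTop ((Scheme.ΓSpecIso (CommRingCat.of d.A)).inv _) = _
    refine congrArg d.W.ι.appTop ?_
    show _ = (Spec.map (CommRingCat.ofHom (algebraMap B.1 d.A))).appTop b
    have := congr($(Scheme.ΓSpecIso_inv_naturality (CommRingCat.ofHom (algebraMap B.1 d.A)))
      ((Scheme.ΓSpecIso (CommRingCat.of B.1)).hom b))
    rw [CommRingCat.comp_apply, CommRingCat.comp_apply, Iso.hom_inv_id_apply] at this
    exact this
  · have : MorphismProperty.RespectsRight (@IsOpenImmersion : MorphismProperty Scheme.{u}) @IsOpenImmersion :=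
      ⟨fun g (_ : IsOpenImmersion g) f (_ : IsOpenImmersion f) => inferInstanceAs (IsOpenImmersion (f ≫ g))⟩
    refine IsZariskiLocalAtTarget.of_range_subset_iSup (P := @IsOpenImmersion) U ?_ fun f => ?_
    · rintro _ ⟨x, rfl⟩
      obtain ⟨f, hfx⟩ := TopologicalSpace.Opens.mem_iSup.1 (hsup.ge (show x ∈ (⊤ : T.Opens) from trivial))
      exact TopologicalSpace.Opens.mem_iSup.2 ⟨f, hfx⟩
    · have := hiso f
      infer_instance

end StepData

end Groth.Agent.AbsApprox
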