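import Groth.Agent.NormLB.Degree

/-!
# A finite locally free surjective morphism has free neighbourhoods
-/

set_option autoImplicit false
set_option backward.isDefEq.respectTransparency false
set_option linter.style.haveILetI false

universe u

open CategoryTheory CategoryTheory.Limits AlgebraicGeometry TopologicalSpace Opposite Module
open Groth.Agent.NormAmple (FreeNhds)

noncomputable section

namespace Groth.Agent.AbsApprox

open Groth.Agent

variable {X' X : Scheme.{u}} {g : X' ⟶ X}

/-- free neighbourhoods from finite, flat, locally finitely presented, surjective -/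
theorem freeNhds_of_flat [IsFinite g] [Flat g] [LocallyOfFinitePresentation g] [Surjective g] : FreeNhds g := by
  intro x
  classical
  let d := g.finrank x
  obtain ⟨W, hW, hxW, -⟩ := exists_isAffineOpen_mem_and_subset (x := x) (U := ⊤) trivial
  let M := (Coh.push g).obj (Coh.structureModule X')
  have hM : Coh.IsQCoh M := by
    haveI : (Coh.structureModule X').IsQuasicoherent := QC.isQCoh_unit X'
    exact QC.isQCoh_pushforward g
  let A := Γ(X, W)
  letI := (g.app W).hom.toAlgebra
  let l : Γ(M, W) ≃ₗ[A] Γ(X', g ⁻¹ᵁ W) :=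
    { toFun := fun c => c
      invFun := fun c => c
      map_add' := fun _ _ => rfl
      map_smul' := fun _ _ => rfl
      left_inv := fun _ => rfl
      right_inv := fun _ => rfl }
  haveI : Module.Finite A Γ(X', g ⁻¹ᵁ W) := IsFinite.finite_app g W hW
  haveI : Algebra.FinitePresentation A Γ(X', g ⁻¹ᵁ W) := by
    have := g.finitePresentation_appLE hW (hW.preimage g) le_rfl
    rwa [Scheme.Hom.appLE_eq_app] at this
  haveI := Module.FinitePresentation.of_finite_of_finitePresentation (R := A) (S := Γ(X', g ⁻¹ᵁ W))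
  haveI : Module.Flat A Γ(X', g ⁻¹ᵁ W) := by
    have := g.flat_appLE hW (hW.preimage g) le_rfl
    rwa [Scheme.Hom.appLE_eq_app] at this
  haveI : Module.FinitePresentation A Γ(M, W) := Module.FinitePresentation.of_equiv l.symm
  haveI : Module.Flat A Γ(M, W) := Module.Flat.of_linearEquiv l
  obtain ⟨r, hr', hfree⟩ := LocFree.exists_free_away (A := A) (N := Γ(M, W))
    (fun _ : PUnit.{u + 1} => hW.primeIdealOf ⟨x, hxW⟩) d (fun _ => by
      rw [Module.rankAtStalk_eq_of_equiv l]
      exact NormLB.rankAtStalk_app hW hxW)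
  have hxr : x ∈ X.basicOpen r := by
    have h := hW.fromSpec_preimage_basicOpen r
    have h2 : hW.primeIdealOf ⟨x, hxW⟩ ∈ hW.fromSpec ⁻¹ᵁ X.basicOpen r := by
      rw [h]; exact hr' PUnit.unit
    have h3 : hW.fromSpec (hW.primeIdealOf ⟨x, hxW⟩) ∈ X.basicOpen r := h2
    rwa [hW.fromSpec_primeIdealOf] at h3
  haveI := hfree
  obtain ⟨h1, h2⟩ := LocFree.free_finite_basicOpen hM hW r
  haveI := h1; haveI := h2
  let A' := Γ(X, X.basicOpen r)
  letI := (g.app (X.basicOpen r)).hom.toAlgebra
  let B' := Γ(X', g ⁻¹ᵁ X.basicOpen r)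
  let l' : Γ(M, X.basicOpen r) ≃ₗ[A'] B' :=
    { toFun := fun c => c
      invFun := fun c => c
      map_add' := fun _ _ => rfl
      map_smul' := fun _ _ => rfl
      left_inv := fun _ => rfl
      right_inv := fun _ => rfl }
  let b' := ((Module.Free.chooseBasis A' Γ(M, X.basicOpen r)).map l').reindex (Fintype.equivFin _)
  haveI := Module.Free.of_basis b'
  haveI := Module.Finite.of_basis b'
  refine ⟨X.basicOpen r, _, hxr, Nat.pos_of_ne_zero fun h0 => ?_, hW.basicOpen r, ⟨b'⟩⟩
  haveI : IsEmpty (Fin (Fintype.card (Module.Free.ChooseBasisIndex A' Γ(M, X.basicOpen r)))) := by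
    rw [h0]; infer_instance
  haveI : Subsingleton B' := b'.repr.toEquiv.subsingleton
  obtain ⟨x', hx'⟩ := g.surjective x
  have hx'W : x' ∈ g ⁻¹ᵁ X.basicOpen r := by
    show g.base x' ∈ X.basicOpen r
    rw [hx']; exact hxr
  have hu : x' ∈ X'.basicOpen (0 : B') := (X'.basicOpen_of_isUnit (isUnit_of_subsingleton _)).ge hx'W
  rw [X'.basicOpen_zero] at hu
  exact hu

end Groth.Agent.AbsApprox
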