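import Groth.Agent.AbsApprox.Main
import Mathlib.AlgebraicGeometry.Morphisms.Immersion

/-!
A scheme of finite type over a base is a closed subscheme of an open of a scheme of finite
presentation over the base.
-/

set_option autoImplicit false
set_option backward.isDefEq.respectTransparency false
universe u
open CategoryTheory CategoryTheory.Limits AlgebraicGeometry Opposite

namespace Groth.Agent.AbsApprox

/-- a morphism from an affine scheme to an affine scheme is a closed immersion once its ring map hits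
the image of one ring and generators over it -/
theorem isClosedImmersion_of_generators {O P U W : Scheme.{u}} [IsAffine O] [IsAffine P] [IsAffine U] [IsAffine W]
    (h : O ⟶ P) (p₁ : P ⟶ U) (p₂ : P ⟶ W) [LocallyOfFiniteType (h ≫ p₂)] (E : Finset Γ(O, ⊤))
    (hE : letI := (h ≫ p₂).appTop.hom.toAlgebra; Algebra.adjoin Γ(W, ⊤) (E : Set Γ(O, ⊤)) = ⊤)
    (hU : ∀ e ∈ E, ∃ u, (h ≫ p₁).appTop u = e) : IsClosedImmersion h := by
  refine IsClosedImmersion.of_surjective_of_isAffine h fun x => ?_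
  letI := (h ≫ p₂).appTop.hom.toAlgebra
  have hx : x ∈ (Algebra.adjoin Γ(W, ⊤) (E : Set Γ(O, ⊤))) := hE ▸ Algebra.mem_top
  show x ∈ h.appTop.hom.range
  induction hx using Algebra.adjoin_induction with
  | mem e he =>
    obtain ⟨u, rfl⟩ := hU e he
    exact ⟨p₁.appTop u, congr($(Scheme.Hom.comp_appTop h p₁).hom u).symm⟩
  | algebraMap r => exact ⟨p₂.appTop r, congr($(Scheme.Hom.comp_appTop h p₂).hom r).symm⟩
  | add a b _ _ ha hb => exact add_mem ha hb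
  | mul a b _ _ ha hb => exact mul_mem ha hb

theorem exists_gen_of_lft {O W : Scheme.{u}} [IsAffine O] [IsAffine W] (h : O ⟶ W) [LocallyOfFiniteType h] :
    ∃ E : Finset Γ(O, ⊤), letI := h.appTop.hom.toAlgebra; Algebra.adjoin Γ(W, ⊤) (E : Set Γ(O, ⊤)) = ⊤ := by
  letI := h.appTop.hom.toAlgebra
  have hf : h.appTop.hom.FiniteType := (HasRingHomProperty.iff_of_isAffine (P := @LocallyOfFiniteType)).1 inferInstance
  exact (RingHom.finiteType_algebraMap.1 hf : Algebra.FiniteType Γ(W, ⊤) Γ(O, ⊤)).out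

theorem lfp_of_lft_noetherian {X Y : Scheme.{u}} [IsLocallyNoetherian Y] (f : X ⟶ Y) [LocallyOfFiniteType f] :
    LocallyOfFinitePresentation f := by
  rw [HasRingHomProperty.iff_appLE (P := @LocallyOfFinitePresentation)]
  intro U V e
  haveI : IsNoetherianRing Γ(Y, U) := IsLocallyNoetherian.component_noetherian U
  exact RingHom.FinitePresentation.of_finiteType.1 (LocallyOfFiniteType.finiteType_appLE f U.2 V.2 e)

theorem exists_closedImmersion_opens {X S : Scheme.{u}} (f : X ⟶ S) [LocallyOfFiniteType f] [CompactSpace X]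
    [QuasiSeparatedSpace X] :
    ∃ (T : Scheme.{u}) (t : T ⟶ S) (Ω : T.Opens) (g : X ⟶ Ω.toScheme), LocallyOfFinitePresentation t ∧ QuasiCompact t ∧
      QuasiSeparated t ∧ IsCompact (Ω : Set T) ∧ IsClosedImmersion g ∧ g ≫ Ω.ι ≫ t = f := by
  classical
  obtain ⟨I, _, _, _, D, π, hl, h1, h2, -⟩ := hasApprox X
  haveI : IsCofiltered Iᵒᵖ := isCofiltered_op_of_isFiltered _
  haveI : ∀ {i j : Iᵒᵖ} (f : i ⟶ j), IsAffineHom (D.map f) := fun f => h1 _ _ f
  have hπaff : ∀ i, IsAffineHom (π.app i) := fun i => isAffineHom_π_app D (Cone.mk X π) hl i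
  have hπw : ∀ {i j : Iᵒᵖ} (φ : i ⟶ j), π.app i ≫ D.map φ = π.app j := fun φ => (Cone.mk X π).w φ
  -- local data
  have hloc : ∀ x : X, ∃ (i : Iᵒᵖ) (U : (D.obj i).Opens) (W : S.Opens), IsAffineOpen U ∧ IsAffineOpen W ∧
      x ∈ π.app i ⁻¹ᵁ U ∧ π.app i ⁻¹ᵁ U ≤ f ⁻¹ᵁ W := fun x => by
    obtain ⟨_, ⟨W, hW, rfl⟩, hxW, -⟩ := S.isBasis_affineOpens.exists_subset_of_mem_open (Set.mem_univ (f x)) isOpen_univ
    obtain ⟨_, ⟨_, ⟨i, U, hU, rfl⟩, rfl⟩, hxU, hUW⟩ :=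
      (isBasis_preimage_isAffineOpen D (Cone.mk X π) hl).exists_subset_of_mem_open (show x ∈ f ⁻¹ᵁ W from hxW) (f ⁻¹ᵁ W).2
    exact ⟨i, U, W, hU, hW, hxU, hUW⟩
  choose i U W hU hW hxU hle using hloc
  have hst : ∀ x : X, ∃ l : Iᵒᵖ, ∃ φ : l ⟶ i x, ∀ (m : Iᵒᵖ) (ψ : m ⟶ l), ∀ (T : Scheme.{u}) (t : T ⟶ S) (Ω : T.Opens)
      [IsAffine Ω.toScheme] (h : (π.app (i x) ⁻¹ᵁ U x).toScheme ⟶ Ω.toScheme)
      (p₁ : Ω.toScheme ⟶ (D.map (ψ ≫ φ) ⁻¹ᵁ U x).toScheme) (p₂ : Ω.toScheme ⟶ (W x).toScheme),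
      h ≫ p₁ ≫ (D.map (ψ ≫ φ) ⁻¹ᵁ U x).ι = (π.app (i x) ⁻¹ᵁ U x).ι ≫ π.app m →
      h ≫ p₂ ≫ (W x).ι = (π.app (i x) ⁻¹ᵁ U x).ι ≫ f → IsClosedImmersion h := by
    intro x
    let O := π.app (i x) ⁻¹ᵁ U x
    haveI : IsAffine O.toScheme := (hU x).preimage (π.app (i x))
    haveI : IsAffine (W x).toScheme := hW x
    haveI : ∀ l : Over (i x), IsAffine ((opensDiagram D (i x) (U x)).obj l) := fun l => (hU x).preimage (D.map l.hom)
    let r := f.resLE (W x) O (hle x)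
    haveI : LocallyOfFiniteType r := inferInstanceAs (LocallyOfFiniteType (f.resLE (W x) O (hle x)))
    obtain ⟨E, hE⟩ := exists_gen_of_lft r
    have hstage : ∀ e : Γ(O.toScheme, ⊤), ∃ l : Over (i x), ∃ u : Γ((opensDiagram D (i x) (U x)).obj l, ⊤),
        ((opensCone D (Cone.mk X π) (i x) (U x)).π.app l).appTop u = e := fun e =>
      exists_appTop_π_eq_of_isAffine_of_isLimit _ _ (isLimitOpensCone D (Cone.mk X π) hl (i x) (U x)) e
    choose le ue hue using hstage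
    obtain ⟨m₀, hm₀⟩ := IsCofiltered.inf_objs_exists (insert (Over.mk (𝟙 (i x))) (E.image le))
    refine ⟨m₀.left, m₀.hom, fun m ψ T t Ω _ h p₁ p₂ e₁ e₂ => ?_⟩
    let M : Over (i x) := Over.mk (ψ ≫ m₀.hom)
    haveI : IsAffine (D.map (ψ ≫ m₀.hom) ⁻¹ᵁ U x).toScheme := (hU x).preimage (D.map (ψ ≫ m₀.hom))
    have hp₂ : h ≫ p₂ = r := by
      rw [← cancel_mono (W x).ι, Category.assoc, e₂, Scheme.Hom.resLE_comp_ι]
    have hp₁ : h ≫ p₁ = (opensCone D (Cone.mk X π) (i x) (U x)).π.app M := by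
      rw [← cancel_mono (D.map (ψ ≫ m₀.hom) ⁻¹ᵁ U x).ι, Category.assoc, e₁]
      exact (Scheme.Hom.resLE_comp_ι _ _).symm
    haveI : LocallyOfFiniteType (h ≫ p₂) := hp₂ ▸ inferInstance
    refine isClosedImmersion_of_generators h p₁ p₂ E (by rw [hp₂]; exact hE) fun e he => ?_
    let η : M ⟶ le e := Over.homMk ψ rfl ≫ (hm₀ (Finset.mem_insert_of_mem (Finset.mem_image_of_mem le he))).some
    refine ⟨((opensDiagram D (i x) (U x)).map η).appTop (ue e), ?_⟩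
    rw [hp₁]
    refine Eq.trans ?_ (hue e)
    rw [← (opensCone D (Cone.mk X π) (i x) (U x)).w η, Scheme.Hom.comp_appTop]
    rfl
  choose l φ hφ using hst
  obtain ⟨s, hs⟩ := isCompact_univ.elim_finite_subcover (fun x => ((π.app (i x) ⁻¹ᵁ U x : X.Opens) : Set X))
    (fun x => (π.app (i x) ⁻¹ᵁ U x).2) (fun x _ => Set.mem_iUnion.2 ⟨x, hxU x⟩)
  obtain ⟨m, hm⟩ := IsCofiltered.inf_objs_exists (s.image l)
  let ψ : ∀ x : s, m ⟶ l x.1 := fun x => (hm (Finset.mem_image_of_mem l x.2)).some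
  -- the ambient scheme
  let tD := Limits.IsTerminal.from specULiftZIsTerminal (D.obj m)
  let tS := Limits.IsTerminal.from specULiftZIsTerminal S
  haveI : CompactSpace (D.obj m) := (h2 m).1
  haveI : IsLocallyNoetherian (D.obj m) := isLocallyNoetherian_of_lft (h2 m).2
  haveI : LocallyOfFiniteType tD := (h2 m).2
  haveI : IsLocallyNoetherian (Spec (CommRingCat.of (ULift.{u} ℤ))) := by
    have : IsNoetherianRing (ULift.{u} ℤ) := isNoetherianRing_of_ringEquiv ℤ ULift.ringEquiv.symm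
    infer_instance
  haveI : LocallyOfFinitePresentation tD := lfp_of_lft_noetherian tD
  haveI : QuasiCompact tD := quasiCompact_of_compactSpace _
  haveI : QuasiSeparated tD := QuasiSeparated.of_quasiSeparatedSpace _
  let T := Limits.pullback tD tS
  let t : T ⟶ S := pullback.snd tD tS
  let j : X ⟶ T := pullback.lift (π.app m) f (specULiftZIsTerminal.hom_ext _ _)
  let Um : s → (D.obj m).Opens := fun x => D.map (ψ x ≫ φ x.1) ⁻¹ᵁ U x.1
  let P : s → T.Opens := fun x => pullback.fst tD tS ⁻¹ᵁ Um x ⊓ pullback.snd tD tS ⁻¹ᵁ W x.1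
  have hPj : ∀ x : s, j ⁻¹ᵁ P x = π.app (i x.1) ⁻¹ᵁ U x.1 := fun x => by
    have e1 : π.app m ⁻¹ᵁ Um x = π.app (i x.1) ⁻¹ᵁ U x.1 := by
      rw [← Scheme.Hom.comp_preimage, hπw]
    have e2 : j ⁻¹ᵁ (pullback.fst tD tS ⁻¹ᵁ Um x) = π.app m ⁻¹ᵁ Um x := by
      rw [← Scheme.Hom.comp_preimage, pullback.lift_fst]
    have e3 : j ⁻¹ᵁ (pullback.snd tD tS ⁻¹ᵁ W x.1) = f ⁻¹ᵁ W x.1 := by
      rw [← Scheme.Hom.comp_preimage, pullback.lift_snd]
    rw [Scheme.Hom.preimage_inf]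
    refine ((congrArg₂ (· ⊓ ·) (e2.trans e1) e3)).trans ?_
    exact inf_eq_left.2 (hle x.1)
  have hPaff : ∀ x : s, IsAffineOpen (P x) := fun x => by
    haveI : IsAffine (Um x).toScheme := (hU x.1).preimage (D.map (ψ x ≫ φ x.1))
    haveI : IsAffine (W x.1).toScheme := hW x.1
    let q : Limits.pullback ((Um x).ι ≫ tD) ((W x.1).ι ≫ tS) ⟶ T :=
      pullback.map _ _ _ _ (Um x).ι (W x.1).ι (𝟙 _) (by simp) (by simp)
    have hq : q.opensRange = P x := TopologicalSpace.Opens.ext (by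
      rw [Scheme.Hom.coe_opensRange, Scheme.Pullback.range_map, Scheme.Opens.range_ι, Scheme.Opens.range_ι]
      rfl)
    exact hq ▸ isAffineOpen_opensRange q
  let Ω : T.Opens := ⨆ x, P x
  have hjΩ : Set.range j ⊆ Set.range Ω.ι := by
    rintro _ ⟨y, rfl⟩
    rw [Scheme.Opens.range_ι]
    obtain ⟨x, hx, hxy⟩ := Set.mem_iUnion₂.1 (hs (Set.mem_univ y))
    exact TopologicalSpace.Opens.mem_iSup.2 ⟨⟨x, hx⟩, ((hPj ⟨x, hx⟩).symm ▸ hxy : y ∈ j ⁻¹ᵁ P ⟨x, hx⟩)⟩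
  let g : X ⟶ Ω.toScheme := IsOpenImmersion.lift Ω.ι j hjΩ
  have hg : g ≫ Ω.ι = j := IsOpenImmersion.lift_fac _ _ _
  refine ⟨T, t, Ω, g, inferInstanceAs (LocallyOfFinitePresentation (pullback.snd tD tS)),
    inferInstanceAs (QuasiCompact (pullback.snd tD tS)), inferInstanceAs (QuasiSeparated (pullback.snd tD tS)), ?_, ?_, ?_⟩
  · rw [TopologicalSpace.Opens.coe_iSup]
    exact isCompact_iUnion fun x => (hPaff x).isCompact
  · rw [IsZariskiLocalAtTarget.iff_of_iSup_eq_top (P := @IsClosedImmersion) (fun x : s => Ω.ι ⁻¹ᵁ P x)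
      (by rw [← Scheme.Hom.preimage_iSup]; exact Ω.ι_preimage_self)]
    intro x
    let Ω' := Ω.ι ⁻¹ᵁ P x
    have hpre : g ⁻¹ᵁ Ω' = π.app (i x.1) ⁻¹ᵁ U x.1 := by rw [← Scheme.Hom.comp_preimage, hg, hPj]
    haveI : IsAffine Ω'.toScheme :=
      (hPaff x).preimage_of_isOpenImmersion Ω.ι (by rw [Scheme.Opens.opensRange_ι]; exact le_iSup P x)
    let h : (π.app (i x.1) ⁻¹ᵁ U x.1).toScheme ⟶ Ω'.toScheme := g.resLE Ω' _ hpre.ge
    let p₁ : Ω'.toScheme ⟶ (Um x).toScheme := IsOpenImmersion.lift (Um x).ι (Ω'.ι ≫ Ω.ι ≫ pullback.fst tD tS) (by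
      rintro _ ⟨y, rfl⟩; rw [Scheme.Opens.range_ι]; exact y.2.1)
    let p₂ : Ω'.toScheme ⟶ (W x.1).toScheme := IsOpenImmersion.lift (W x.1).ι (Ω'.ι ≫ Ω.ι ≫ pullback.snd tD tS) (by
      rintro _ ⟨y, rfl⟩; rw [Scheme.Opens.range_ι]; exact y.2.2)
    have hcl : IsClosedImmersion h := by
      refine hφ x.1 m (ψ x) Ω.toScheme (Ω.ι ≫ t) Ω' h p₁ p₂ ?_ ?_
      · rw [IsOpenImmersion.lift_fac, Scheme.Hom.resLE_comp_ι_assoc, reassoc_of% hg, pullback.lift_fst]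
      · rw [IsOpenImmersion.lift_fac, Scheme.Hom.resLE_comp_ι_assoc, reassoc_of% hg, pullback.lift_snd]
    have e : g ∣_ Ω' = (X.isoOfEq hpre).hom ≫ h := by
      rw [← cancel_mono Ω'.ι]; simp [h]
    show IsClosedImmersion (g ∣_ Ω')
    rw [e]
    infer_instance
  · rw [reassoc_of% hg]
    exact pullback.lift_snd _ _ _

end Groth.Agent.AbsApprox
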