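import Groth.Agent.AbsApprox.ProdLim
import Mathlib.CategoryTheory.Limits.Constructions.Over.Connected

/-!
A quasi-compact quasi-separated scheme over a quasi-separated base is a limit of schemes of finite
presentation over the base, with affine transition maps.
-/

set_option autoImplicit false
set_option backward.isDefEq.respectTransparency false
universe u
open CategoryTheory CategoryTheory.Limits AlgebraicGeometry Opposite

namespace Groth.Agent.AbsApprox

theorem exists_limit_over {X S : Scheme.{u}} (f : X ⟶ S) [CompactSpace X] [QuasiSeparatedSpace X]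
    [QuasiSeparatedSpace S] :
    ∃ (J : Type u) (_ : Preorder J) (_ : IsDirected J (fun a b => a ≤ b)) (_ : Nonempty J) (D : Jᵒᵖ ⥤ Over S)
      (c : Cone D) (_ : IsLimit c) (_ : c.pt ≅ Over.mk f),
      (∀ i, LocallyOfFinitePresentation (D.obj i).hom ∧ QuasiCompact (D.obj i).hom ∧ QuasiSeparated (D.obj i).hom ∧
        CompactSpace (D.obj i).left ∧ QuasiSeparatedSpace (D.obj i).left) ∧
      (∀ (i j : Jᵒᵖ) (a : i ⟶ j), IsAffineHom (D.map a).left) ∧
      (∀ i, IsAffineHom (c.π.app i).left) := by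
  classical
  obtain ⟨s, hs⟩ := (isCompact_range f.continuous).elim_finite_subcover (fun V : S.affineOpens => ((V : S.Opens) : Set S))
    (fun V => (V : S.Opens).2) (fun y _ => by
      obtain ⟨_, ⟨V, hV, rfl⟩, hyV, -⟩ := S.isBasis_affineOpens.exists_subset_of_mem_open (Set.mem_univ y) isOpen_univ
      exact Set.mem_iUnion.2 ⟨⟨V, hV⟩, hyV⟩)
  let S₀ : S.Opens := ⨆ V : s, (V.1 : S.Opens)
  haveI : CompactSpace S₀.toScheme := isCompact_iff_compactSpace.mp (by
    rw [TopologicalSpace.Opens.coe_iSup]; exact isCompact_iUnion fun V => V.1.2.isCompact)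
  haveI : QuasiCompact S₀.ι := quasiCompact_of_compactSpace _
  haveI : QuasiSeparatedSpace S₀.toScheme :=
    (isQuasiSeparated_iff_quasiSeparatedSpace _ S₀.2).mp (.of_quasiSeparatedSpace _)
  let f₀ : X ⟶ S₀.toScheme := IsOpenImmersion.lift S₀.ι f (by
    rw [Scheme.Opens.range_ι]
    intro y hy
    obtain ⟨V, hV, hyV⟩ := Set.mem_iUnion₂.1 (hs hy)
    exact TopologicalSpace.Opens.mem_iSup.2 ⟨⟨V, hV⟩, hyV⟩)
  have hf₀ : f₀ ≫ S₀.ι = f := IsOpenImmersion.lift_fac _ _ _
  let DS : (PUnit.{u+1})ᵒᵖ ⥤ Scheme.{u} := (Functor.const _).obj S₀.toScheme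
  let cS : Cone DS := { pt := S₀.toScheme, π := { app := fun _ => 𝟙 _ } }
  let hcS : IsLimit cS :=
    { lift := fun t => t.π.app (op PUnit.unit)
      fac := fun t p => by
        obtain ⟨⟨⟩⟩ := p
        exact Category.comp_id _
      uniq := fun t m hm => (Category.comp_id m).symm.trans (hm (op PUnit.unit)) }
  haveI : IsDirected PUnit.{u+1} (fun a b => a ≤ b) := ⟨fun _ _ => ⟨PUnit.unit, le_rfl, le_rfl⟩⟩
  haveI : ∀ l, CompactSpace (DS.obj l) := fun _ => inferInstanceAs (CompactSpace S₀.toScheme)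
  haveI : ∀ l, QuasiSeparatedSpace (DS.obj l) := fun _ => inferInstanceAs (QuasiSeparatedSpace S₀.toScheme)
  obtain ⟨J, _, _, _, F, hF, DX, φ, cX, hcX, eX, a1, a2, a3⟩ :=
    exists_limit_over_system f₀ DS cS hcS (Iso.refl _) (fun _ _ _ => inferInstanceAs (IsAffineHom (𝟙 S₀.toScheme)))
  let t : ∀ i, DX.obj i ⟶ S := fun i => φ.app i ≫ S₀.ι
  have ht : ∀ {i j} (a : i ⟶ j), DX.map a ≫ t j = t i := fun {i j} a => by
    show DX.map a ≫ φ.app j ≫ S₀.ι = φ.app i ≫ S₀.ι
    have := φ.naturality a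
    rw [← Category.assoc, this]
    exact congrArg (· ≫ S₀.ι) (Category.comp_id _)
  let D : Jᵒᵖ ⥤ Over S :=
    { obj := fun i => Over.mk (t i)
      map := fun a => Over.homMk (DX.map a) (ht a)
      map_id := fun i => by ext; exact DX.map_id i
      map_comp := fun a b => by ext; exact DX.map_comp a b }
  have hcomm : ∀ i, cX.π.app i ≫ t i = eX.hom ≫ f := fun i => by
    show cX.π.app i ≫ φ.app i ≫ S₀.ι = _
    rw [← Category.assoc, a3 i, ← hf₀]
    simp [cS]
  let c : Cone D :=
    { pt := Over.mk (eX.hom ≫ f)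
      π :=
      { app := fun i => Over.homMk (cX.π.app i) (hcomm i)
        naturality := fun i j a => by
          ext
          exact cX.π.naturality a } }
  haveI : IsCofiltered Jᵒᵖ := isCofiltered_op_of_isFiltered _
  haveI : IsConnected Jᵒᵖ := IsCofiltered.isConnected _
  have hl : IsLimit c := isLimitOfReflects (Over.forget S)
    (IsLimit.ofIsoLimit hcX (Cone.ext (Iso.refl _) (fun i => (Category.id_comp _).symm)))
  haveI : ∀ {i j : Jᵒᵖ} (a : i ⟶ j), IsAffineHom (DX.map a) := fun a => a1 _ _ a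
  refine ⟨J, inferInstance, inferInstance, inferInstance, D, c, hl, Over.isoMk eX rfl, fun i => ?_,
    fun i j a => a1 i j a, fun i => isAffineHom_π_app DX cX hcX i⟩
  obtain ⟨_, _, _⟩ := a2 i
  haveI : CompactSpace ((F.monotone.functor.op ⋙ DS).obj i) := inferInstanceAs (CompactSpace S₀.toScheme)
  haveI : QuasiSeparatedSpace ((F.monotone.functor.op ⋙ DS).obj i) := inferInstanceAs (QuasiSeparatedSpace S₀.toScheme)
  exact ⟨inferInstanceAs (LocallyOfFinitePresentation (φ.app i ≫ S₀.ι)),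
    inferInstanceAs (QuasiCompact (φ.app i ≫ S₀.ι)), inferInstanceAs (QuasiSeparated (φ.app i ≫ S₀.ι)),
    QuasiCompact.compactSpace_of_compactSpace (φ.app i), quasiSeparatedSpace_of_quasiSeparated (φ.app i)⟩

end Groth.Agent.AbsApprox
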