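import Groth.Agent.AbsApprox.StageProps
import Groth.Agent.AbsApprox.OverLim
import Groth.Agent.LimMore.AffScheme
import Mathlib.AlgebraicGeometry.Morphisms.Proper
import Mathlib.AlgebraicGeometry.Morphisms.Integral

/-!
Integral morphisms: images in schemes of finite type are finite; finite surjective models.
-/

set_option autoImplicit false
set_option backward.isDefEq.respectTransparency false
universe u
open CategoryTheory CategoryTheory.Limits AlgebraicGeometry Opposite

namespace Groth.Agent.AbsApprox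

theorem closedDiagram_obj {X X' S : Scheme.{u}} (f' : X' ⟶ S) (j : X ⟶ X') [IsClosedImmersion j]
    (L : (LimClosed.FTBelow j.ker)ᵒᵖ) : (closedDiagram f' j).obj L = Over.mk (L.unop.1.subschemeι ≫ f') := rfl

/-- keep the ideal out of the subtype: the kernel is slow to compare the two subtypes -/
theorem isFinite_of_closedDiagram {X X' S : Scheme.{u}} (f' : X' ⟶ S) (j : X ⟶ X') [IsClosedImmersion j]
    (L : (LimClosed.FTBelow j.ker)ᵒᵖ) (I : X'.IdealSheafData) (hI : L.unop.1 = I)
    (h : IsFinite ((closedDiagram f' j).obj L).hom) : IsFinite (I.subschemeι ≫ f') := by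
  subst hI
  rw [closedDiagram_obj] at h
  exact h

variable {X P S : Scheme.{u}} (π : X ⟶ P) (t : P ⟶ S)

/-- the image of an integral scheme in an affine finite type scheme is finite -/
theorem isFinite_image [IsAffineHom t] [LocallyOfFiniteType t] [IsIntegralHom (π ≫ t)] :
    IsFinite (π.ker.subschemeι ≫ t) := by
  have : IsAffineHom π := IsAffineHom.of_comp π t
  let u := IsClosedImmersion.lift π.ker.subschemeι π (by rw [Scheme.IdealSheafData.ker_subschemeι])
  have hu : u ≫ π.ker.subschemeι = π := IsClosedImmersion.lift_fac _ _ _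
  have : UniversallyClosed π := UniversallyClosed.of_comp_of_isSeparated π t
  have : Surjective u := ⟨fun z => by
    have hz : π.ker.subschemeι z ∈ (π.ker.support : Set P) := by
      rw [← Scheme.IdealSheafData.range_subschemeι]; exact ⟨z, rfl⟩
    rw [Scheme.Hom.support_ker] at hz
    change π.ker.subschemeι z ∈ closure (Set.range π) at hz
    rw [π.isClosedMap.isClosed_range.closure_eq] at hz
    obtain ⟨x, hx⟩ := hz
    exact ⟨x, π.ker.subschemeι.isClosedEmbedding.injective (by rw [← Scheme.Hom.comp_apply, hu, hx])⟩⟩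
  have : UniversallyClosed (u ≫ π.ker.subschemeι ≫ t) := by rw [reassoc_of% hu]; infer_instance
  have : UniversallyClosed (π.ker.subschemeι ≫ t) := UniversallyClosed.of_comp_surjective u _
  have : IsProper (π.ker.subschemeι ≫ t) := IsProper.mk
  exact IsFinite.iff_isProper_and_isAffineHom.2 ⟨inferInstance, inferInstance⟩

/-- a finitely presented closed subscheme of the stage, finite over the base and containing the image -/
theorem exists_finite_closed [IsAffineHom t] [LocallyOfFinitePresentation t] [CompactSpace P] [QuasiSeparatedSpace P]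
    [CompactSpace S] [QuasiSeparatedSpace S] [IsIntegralHom (π ≫ t)] :
    ∃ L : LimClosed.FTBelow π.ker, ∀ M : LimClosed.FTBelow π.ker, L ≤ M → IsFinite (M.1.subschemeι ≫ t) := by
  let j := π.ker.subschemeι
  have : IsFinite (j ≫ t) := isFinite_image π t
  obtain ⟨L, hL⟩ := exists_isFinite_closedDiagram (j ≫ t) t j rfl
  have e : j.ker = π.ker := Scheme.IdealSheafData.ker_subschemeι _
  refine ⟨⟨L.unop.1, L.unop.2.1.trans_eq e, L.unop.2.2⟩, fun M h => ?_⟩
  have hh : M.1 ≤ j.ker ∧ ∀ V, (M.1.ideal V).FG := ⟨M.2.1.trans_eq e.symm, M.2.2⟩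
  exact isFinite_of_closedDiagram t j (op ⟨M.1, hh⟩) M.1 (Subtype.coe_mk M.1 hh)
    (hL (op ⟨M.1, hh⟩) (homOfLE (show L.unop.1 ≤ M.1 from h)).op)

theorem exists_finite_fp_surjective {X S : Scheme.{u}} (f : X ⟶ S) [IsIntegralHom f] [Surjective f] [IsAffine X]
    [CompactSpace S] [QuasiSeparatedSpace S] :
    ∃ (W : Scheme.{u}) (w : W ⟶ S), IsAffine W ∧ IsFinite w ∧ Surjective w ∧ LocallyOfFinitePresentation w := by
  obtain ⟨J, _, _, _, D, c, hl, e, h1, h2, h3⟩ := exists_limit_over f
  have : IsCofiltered Jᵒᵖ := isCofiltered_op_of_isFiltered _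
  have : IsConnected Jᵒᵖ := IsCofiltered.isConnected _
  let E := D ⋙ Over.forget S
  have hE : IsLimit ((Over.forget S).mapCone c) := isLimitOfPreserves (Over.forget S) hl
  have : ∀ {i j : Jᵒᵖ} (a : i ⟶ j), IsAffineHom (E.map a) := fun a => h2 _ _ a
  have : ∀ i, CompactSpace (E.obj i) := fun i => (h1 i).2.2.2.1
  have : ∀ i, QuasiSeparatedSpace (E.obj i) := fun i => (h1 i).2.2.2.2
  let i₀ : Jᵒᵖ := op (Classical.arbitrary J)
  have hcf : IsIntegralHom c.pt.hom ∧ Surjective c.pt.hom := by
    rw [show c.pt.hom = e.hom.left ≫ f from (Over.w e.hom).symm]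
    exact ⟨inferInstance, inferInstance⟩
  have : IsAffine (Over.mk f).left := ‹IsAffine X›
  have : IsAffine ((Over.forget S).mapCone c).pt := IsAffine.of_isIso e.hom.left
  obtain ⟨i₁, hi₁⟩ := Scheme.exists_isAffine_of_isLimit E _ hE
  have hint : ∀ i : Jᵒᵖ, IsIntegralHom ((c.π.app i).left ≫ (D.obj i).hom) ∧
      Surjective ((c.π.app i).left ≫ (D.obj i).hom) := fun i => by rw [Over.w (c.π.app i)]; exact hcf
  have : IsAffineHom (((Over.forget S).mapCone c).π.app i₀ ≫ (D.obj i₀).hom) := by
    have := (hint i₀).1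
    exact inferInstanceAs (IsAffineHom ((c.π.app i₀).left ≫ (D.obj i₀).hom))
  obtain ⟨i₂, hi₂⟩ := LimMore.exists_isAffineHom_over E (fun i => (D.obj i).hom) (fun a => Over.w (D.map a)) _ hE i₀
  obtain ⟨i, a₁, a₂, -⟩ := IsCofilteredOrEmpty.cone_objs i₁ i₂
  let P := (D.obj i).left
  let t : P ⟶ S := (D.obj i).hom
  have : IsAffine (E.obj i₁) := hi₁
  have : IsAffine P := isAffine_of_isAffineHom (E.map a₁)
  have : IsAffineHom t := hi₂ i a₂
  have : LocallyOfFinitePresentation t := (h1 i).1
  let π : ((Over.forget S).mapCone c).pt ⟶ P := (c.π.app i).left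
  have : IsIntegralHom (π ≫ t) := (hint i).1
  have : Surjective (π ≫ t) := (hint i).2
  obtain ⟨L, hL⟩ := exists_finite_closed π t
  refine ⟨L.1.subscheme, L.1.subschemeι ≫ t, isAffine_of_isAffineHom L.1.subschemeι, hL L le_rfl, ?_, ?_⟩
  · let u := IsClosedImmersion.lift L.1.subschemeι π (by rw [Scheme.IdealSheafData.ker_subschemeι]; exact L.2.1)
    have : Surjective (u ≫ L.1.subschemeι ≫ t) := by rw [IsClosedImmersion.lift_fac_assoc]; infer_instance
    exact Surjective.of_comp u _
  · have : LocallyOfFinitePresentation L.1.subschemeι := GrpdFit.lfp_subschemeι L.1 fun x => by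
      obtain ⟨U, hU, hxU, -⟩ := exists_isAffineOpen_mem_and_subset (x := x) (U := (⊤ : P.Opens)) trivial
      exact ⟨⟨U, hU⟩, hxU, L.2.2 _⟩
    infer_instance

end Groth.Agent.AbsApprox
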