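import Groth.Agent.LimModel.Glue

/-!
Gluing two limits of schemes along compatible open subschemes.
-/

set_option autoImplicit false
set_option backward.isDefEq.respectTransparency false
universe v u
open CategoryTheory CategoryTheory.Limits AlgebraicGeometry

namespace Groth.Agent.AbsApprox

open LimModel

section map

variable {W U V W' U' V' : Scheme.{u}} (f : W ⟶ U) (g : W ⟶ V) (f' : W' ⟶ U') (g' : W' ⟶ V')
  [IsOpenImmersion f] [IsOpenImmersion g] [IsOpenImmersion f'] [IsOpenImmersion g']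
  (w : W ⟶ W') (α : U ⟶ U') (β : V ⟶ V') (hf : f ≫ α = w ≫ f') (hg : g ≫ β = w ≫ g')

theorem range_inl_of_map_mem (hV : β ⁻¹' Set.range g' ⊆ Set.range g) (x : (pushout f g : Scheme.{u}))
    (hx : pushout.map f g f' g' α β w hf hg x ∈ Set.range (pushout.inl f' g')) :
    x ∈ Set.range (pushout.inl f g) := by
  rcases (inl_range_sup_inr_range f g).ge (Set.mem_univ x) with h | ⟨y, rfl⟩
  · exact h
  · obtain ⟨z, hz⟩ := hx
    rw [← Scheme.Hom.comp_apply, pushout.inr_desc, Scheme.Hom.comp_apply] at hz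
    obtain ⟨t, -, ht⟩ := exists_of_inl_eq_inr f' g' hz
    obtain ⟨s, rfl⟩ := hV ⟨t, ht⟩
    exact ⟨f s, by rw [← Scheme.Hom.comp_apply, pushout.condition, Scheme.Hom.comp_apply]⟩

theorem range_inr_of_map_mem (hU : α ⁻¹' Set.range f' ⊆ Set.range f) (x : (pushout f g : Scheme.{u}))
    (hx : pushout.map f g f' g' α β w hf hg x ∈ Set.range (pushout.inr f' g')) :
    x ∈ Set.range (pushout.inr f g) := by
  rcases (inl_range_sup_inr_range f g).ge (Set.mem_univ x) with ⟨y, rfl⟩ | h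
  · obtain ⟨z, hz⟩ := hx
    rw [← Scheme.Hom.comp_apply, pushout.inl_desc, Scheme.Hom.comp_apply] at hz
    obtain ⟨t, ht, -⟩ := exists_of_inl_eq_inr f' g' hz.symm
    obtain ⟨s, rfl⟩ := hU ⟨t, ht⟩
    exact ⟨g s, by rw [← Scheme.Hom.comp_apply, ← pushout.condition, Scheme.Hom.comp_apply]⟩
  · exact h

theorem isPullback_inl (hV : β ⁻¹' Set.range g' ⊆ Set.range g) :
    IsPullback α (pushout.inl f g) (pushout.inl f' g') (pushout.map f g f' g' α β w hf hg) := by
  have := isOpenImmersion_inl f g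
  have := isOpenImmersion_inl f' g'
  refine IsOpenImmersion.isPullback _ _ _ _ (pushout.inl_desc _ _ _) (TopologicalSpace.Opens.ext (Set.ext fun x => ⟨fun hx => ?_, ?_⟩))
  · exact range_inl_of_map_mem f g f' g' w α β hf hg hV x hx
  · rintro ⟨y, rfl⟩
    show pushout.map f g f' g' α β w hf hg (pushout.inl f g y) ∈ Set.range (pushout.inl f' g')
    rw [← Scheme.Hom.comp_apply, pushout.inl_desc, Scheme.Hom.comp_apply]
    exact ⟨_, rfl⟩

theorem isPullback_inr (hU : α ⁻¹' Set.range f' ⊆ Set.range f) :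
    IsPullback β (pushout.inr f g) (pushout.inr f' g') (pushout.map f g f' g' α β w hf hg) := by
  have := isOpenImmersion_inr f g
  have := isOpenImmersion_inr f' g'
  refine IsOpenImmersion.isPullback _ _ _ _ (pushout.inr_desc _ _ _) (TopologicalSpace.Opens.ext (Set.ext fun x => ⟨fun hx => ?_, ?_⟩))
  · exact range_inr_of_map_mem f g f' g' w α β hf hg hU x hx
  · rintro ⟨y, rfl⟩
    show pushout.map f g f' g' α β w hf hg (pushout.inr f g y) ∈ Set.range (pushout.inr f' g')
    rw [← Scheme.Hom.comp_apply, pushout.inr_desc, Scheme.Hom.comp_apply]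
    exact ⟨_, rfl⟩

/-- the two charts of a pushout -/
noncomputable def cover : (pushout f g : Scheme.{u}).OpenCover :=
  Scheme.Cover.mkOfCovers (ULift.{u} Bool) (fun b => cond b.down U V)
    (fun b => match b with | ⟨true⟩ => pushout.inl f g | ⟨false⟩ => pushout.inr f g)
    (fun x => by
      rcases (inl_range_sup_inr_range f g).ge (Set.mem_univ x) with ⟨y, hy⟩ | ⟨y, hy⟩
      · exact ⟨⟨true⟩, y, hy⟩
      · exact ⟨⟨false⟩, y, hy⟩)
    (fun b => by
      have := isOpenImmersion_inl f g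
      have := isOpenImmersion_inr f g
      rcases b with ⟨_ | _⟩ <;> simp only <;> infer_instance)

/-- a property local on the target holds of the glued map if it holds of both pieces -/
theorem prop_map (P : MorphismProperty Scheme.{u}) [IsZariskiLocalAtTarget P]
    (hU : α ⁻¹' Set.range f' ⊆ Set.range f) (hV : β ⁻¹' Set.range g' ⊆ Set.range g) (hα : P α) (hβ : P β) :
    P (pushout.map f g f' g' α β w hf hg) := by
  rw [IsZariskiLocalAtTarget.iff_of_openCover (P := P) (cover f' g')]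
  rintro ⟨_ | _⟩
  · exact (P.arrow_mk_iso_iff (Arrow.isoMk (isPullback_inr f g f' g' w α β hf hg hU).flip.isoPullback (Iso.refl V')
      (by simp [Scheme.Cover.pullbackHom, cover]; exact IsPullback.isoPullback_hom_snd _))).1 hβ
  · exact (P.arrow_mk_iso_iff (Arrow.isoMk (isPullback_inl f g f' g' w α β hf hg hV).flip.isoPullback (Iso.refl U')
      (by simp [Scheme.Cover.pullbackHom, cover]; exact IsPullback.isoPullback_hom_snd _))).1 hα

end map

section glue

variable {K : Type v} [Category.{v} K] [IsConnected K] {DU DV DW : K ⥤ Scheme.{u}} (f : DW ⟶ DU) (g : DW ⟶ DV)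
  [∀ k, IsOpenImmersion (f.app k)] [∀ k, IsOpenImmersion (g.app k)]
  (hf : ∀ {k l : K} (φ : k ⟶ l), DU.map φ ⁻¹' Set.range (f.app l) ⊆ Set.range (f.app k))
  (hg : ∀ {k l : K} (φ : k ⟶ l), DV.map φ ⁻¹' Set.range (g.app l) ⊆ Set.range (g.app k))

/-- the glued system -/
noncomputable def glue : K ⥤ Scheme.{u} where
  obj k := pushout (f.app k) (g.app k)
  map φ := pushout.map _ _ _ _ (DU.map φ) (DV.map φ) (DW.map φ) (f.naturality φ).symm (g.naturality φ).symm
  map_id k := by ext : 1 <;> simp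
  map_comp φ ψ := by ext : 1 <;> simp

theorem isAffineHom_glue_map (hf : ∀ {k l : K} (φ : k ⟶ l), DU.map φ ⁻¹' Set.range (f.app l) ⊆ Set.range (f.app k))
    (hg : ∀ {k l : K} (φ : k ⟶ l), DV.map φ ⁻¹' Set.range (g.app l) ⊆ Set.range (g.app k))
    {k l : K} (φ : k ⟶ l) [IsAffineHom (DU.map φ)] [IsAffineHom (DV.map φ)] :
    IsAffineHom ((glue f g).map φ) :=
  prop_map (f.app k) (g.app k) (f.app l) (g.app l) (DW.map φ) (DU.map φ) (DV.map φ) (f.naturality φ).symm
    (g.naturality φ).symm @IsAffineHom (hf φ) (hg φ) inferInstance inferInstance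

variable (cU : Cone DU) (cV : Cone DV) (cW : Cone DW) (a : cW.pt ⟶ cU.pt) (b : cW.pt ⟶ cV.pt)
  [IsOpenImmersion a] [IsOpenImmersion b]
  (ha : ∀ k, a ≫ cU.π.app k = cW.π.app k ≫ f.app k) (hb : ∀ k, b ≫ cV.π.app k = cW.π.app k ≫ g.app k)

/-- the glued cone -/
noncomputable def glueCone : Cone (glue f g) where
  pt := pushout a b
  π :=
  { app := fun k => pushout.map _ _ _ _ (cU.π.app k) (cV.π.app k) (cW.π.app k) (ha k) (hb k)
    naturality := fun k l φ => by
      refine (Category.id_comp _).trans ?_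
      dsimp only [glue]
      apply pushout.hom_ext
      · simp [cU.w_assoc]
      · simp [cV.w_assoc] }

theorem inl_glueCone (k : K) :
    pushout.inl a b ≫ (glueCone f g cU cV cW a b ha hb).π.app k = cU.π.app k ≫ pushout.inl (f.app k) (g.app k) :=
  pushout.inl_desc _ _ _

theorem inr_glueCone (k : K) :
    pushout.inr a b ≫ (glueCone f g cU cV cW a b ha hb).π.app k = cV.π.app k ≫ pushout.inr (f.app k) (g.app k) :=
  pushout.inr_desc _ _ _

variable (hcU : IsLimit cU) (hcV : IsLimit cV)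
  (hau : ∀ k, cU.π.app k ⁻¹' Set.range (f.app k) ⊆ Set.range a)
  (hbv : ∀ k, cV.π.app k ⁻¹' Set.range (g.app k) ⊆ Set.range b)

include hg in
theorem glue_preimage_inl_eq (s : Cone (glue f g)) (k l : K) :
    (fun x : s.pt => s.π.app k x) ⁻¹' Set.range (pushout.inl (f.app k) (g.app k)) = (fun x : s.pt => s.π.app l x) ⁻¹' Set.range (pushout.inl (f.app l) (g.app l)) := by
  refine constant_of_preserves_morphisms
    (fun k => (fun x : s.pt => s.π.app k x) ⁻¹' Set.range (pushout.inl (f.app k) (g.app k))) (fun k l φ => ?_) k l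
  ext x
  simp only [Set.mem_preimage]
  rw [← s.w φ, Scheme.Hom.comp_apply]
  refine ⟨?_, fun h => range_inl_of_map_mem (f.app k) (g.app k) (f.app l) (g.app l) (DW.map φ) (DU.map φ) (DV.map φ)
    (f.naturality φ).symm (g.naturality φ).symm (hg φ) _ h⟩
  rintro ⟨y, hy⟩
  refine ⟨DU.map φ y, ?_⟩
  refine Eq.trans ?_ (congrArg (fun z => ((glue f g).map φ) z) hy)
  show (DU.map φ ≫ pushout.inl (f.app l) (g.app l)) y = (pushout.inl (f.app k) (g.app k) ≫ (glue f g).map φ) y
  have e : pushout.inl (f.app k) (g.app k) ≫ (glue f g).map φ = DU.map φ ≫ pushout.inl (f.app l) (g.app l) :=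
    pushout.inl_desc _ _ _
  exact (congrArg (fun q => q y) e).symm

include hf in
theorem glue_preimage_inr_eq (s : Cone (glue f g)) (k l : K) :
    (fun x : s.pt => s.π.app k x) ⁻¹' Set.range (pushout.inr (f.app k) (g.app k)) = (fun x : s.pt => s.π.app l x) ⁻¹' Set.range (pushout.inr (f.app l) (g.app l)) := by
  refine constant_of_preserves_morphisms
    (fun k => (fun x : s.pt => s.π.app k x) ⁻¹' Set.range (pushout.inr (f.app k) (g.app k))) (fun k l φ => ?_) k l
  ext x
  simp only [Set.mem_preimage]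
  rw [← s.w φ, Scheme.Hom.comp_apply]
  refine ⟨?_, fun h => range_inr_of_map_mem (f.app k) (g.app k) (f.app l) (g.app l) (DW.map φ) (DU.map φ) (DV.map φ)
    (f.naturality φ).symm (g.naturality φ).symm (hf φ) _ h⟩
  rintro ⟨y, hy⟩
  refine ⟨DV.map φ y, ?_⟩
  refine Eq.trans ?_ (congrArg (fun z => ((glue f g).map φ) z) hy)
  show (DV.map φ ≫ pushout.inr (f.app l) (g.app l)) y = (pushout.inr (f.app k) (g.app k) ≫ (glue f g).map φ) y
  have e : pushout.inr (f.app k) (g.app k) ≫ (glue f g).map φ = DV.map φ ≫ pushout.inr (f.app l) (g.app l) :=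
    pushout.inr_desc _ _ _
  exact (congrArg (fun q => q y) e).symm

include hf hg hcU hcV hau in
theorem exists_lift_glue (s : Cone (glue f g)) :
    ∃ m : s.pt ⟶ (glueCone f g cU cV cW a b ha hb).pt, ∀ k, m ≫ (glueCone f g cU cV cW a b ha hb).π.app k = s.π.app k := by
  have k₀ : K := Classical.arbitrary K
  let OU : s.pt.Opens := ⟨s.π.app k₀ ⁻¹' Set.range (pushout.inl (f.app k₀) (g.app k₀)),
    (have := isOpenImmersion_inl (f.app k₀) (g.app k₀)
     (pushout.inl (f.app k₀) (g.app k₀)).isOpenEmbedding.isOpen_range.preimage (s.π.app k₀).continuous)⟩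
  let OV : s.pt.Opens := ⟨s.π.app k₀ ⁻¹' Set.range (pushout.inr (f.app k₀) (g.app k₀)),
    (have := isOpenImmersion_inr (f.app k₀) (g.app k₀)
     (pushout.inr (f.app k₀) (g.app k₀)).isOpenEmbedding.isOpen_range.preimage (s.π.app k₀).continuous)⟩
  have := fun k => isOpenImmersion_inl (f.app k) (g.app k)
  have := fun k => isOpenImmersion_inr (f.app k) (g.app k)
  have hOU : ∀ k, Set.range (OU.ι ≫ s.π.app k) ⊆ Set.range (pushout.inl (f.app k) (g.app k)) := by
    rintro k _ ⟨x, rfl⟩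
    exact (glue_preimage_inl_eq f g hg s k₀ k).le x.2
  have hOV : ∀ k, Set.range (OV.ι ≫ s.π.app k) ⊆ Set.range (pushout.inr (f.app k) (g.app k)) := by
    rintro k _ ⟨x, rfl⟩
    exact (glue_preimage_inr_eq f g hf s k₀ k).le x.2
  let pU : ∀ k, OU.toScheme ⟶ DU.obj k := fun k => IsOpenImmersion.lift _ _ (hOU k)
  let pV : ∀ k, OV.toScheme ⟶ DV.obj k := fun k => IsOpenImmersion.lift _ _ (hOV k)
  have hpU : ∀ k, pU k ≫ pushout.inl (f.app k) (g.app k) = OU.ι ≫ s.π.app k := fun k => IsOpenImmersion.lift_fac _ _ _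
  have hpV : ∀ k, pV k ≫ pushout.inr (f.app k) (g.app k) = OV.ι ≫ s.π.app k := fun k => IsOpenImmersion.lift_fac _ _ _
  let sU : Cone DU :=
    { pt := OU.toScheme
      π := { app := pU
             naturality := fun k l φ => by
               refine (Category.id_comp _).trans ?_
               rw [← cancel_mono (pushout.inl (f.app l) (g.app l)), hpU,
                 Category.assoc, show DU.map φ ≫ pushout.inl (f.app l) (g.app l) =
                   pushout.inl (f.app k) (g.app k) ≫ (glue f g).map φ from (pushout.inl_desc _ _ _).symm,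
                 reassoc_of% hpU, s.w φ] } }
  let sV : Cone DV :=
    { pt := OV.toScheme
      π := { app := pV
             naturality := fun k l φ => by
               refine (Category.id_comp _).trans ?_
               rw [← cancel_mono (pushout.inr (f.app l) (g.app l)), hpV,
                 Category.assoc, show DV.map φ ≫ pushout.inr (f.app l) (g.app l) =
                   pushout.inr (f.app k) (g.app k) ≫ (glue f g).map φ from (pushout.inr_desc _ _ _).symm,
                 reassoc_of% hpV, s.w φ] } }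
  let σU := hcU.lift sU
  let σV := hcV.lift sV
  have hσU : ∀ k, σU ≫ cU.π.app k = pU k := hcU.fac sU
  have hσV : ∀ k, σV ≫ cV.π.app k = pV k := hcV.fac sV
  have hcov : OU ⊔ OV = ⊤ := top_le_iff.1 fun x _ =>
    (inl_range_sup_inr_range (f.app k₀) (g.app k₀)).ge (Set.mem_univ (s.π.app k₀ x))
  have hrange : Set.range (s.pt.homOfLE (inf_le_left : OU ⊓ OV ≤ OU) ≫ σU) ⊆ Set.range a := by
    rintro _ ⟨x, rfl⟩
    refine hau k₀ ?_
    show cU.π.app k₀ _ ∈ Set.range (f.app k₀)
    show ((s.pt.homOfLE (inf_le_left : OU ⊓ OV ≤ OU) ≫ σU) ≫ cU.π.app k₀) x ∈ _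
    rw [Category.assoc, hσU]
    obtain ⟨y, hy⟩ : s.π.app k₀ x.1 ∈ Set.range (pushout.inr (f.app k₀) (g.app k₀)) := x.2.2
    obtain ⟨t, ht, -⟩ := exists_of_inl_eq_inr (f.app k₀) (g.app k₀)
      (x := (s.pt.homOfLE (inf_le_left : OU ⊓ OV ≤ OU) ≫ pU k₀) x) (y := y) (by
      rw [hy, ← Scheme.Hom.comp_apply, Category.assoc, hpU, Scheme.homOfLE_ι_assoc, Scheme.Hom.comp_apply]
      rfl)
    exact ⟨t, ht⟩
  let t : (OU ⊓ OV).toScheme ⟶ cW.pt := IsOpenImmersion.lift a _ hrange
  have hta : t ≫ a = s.pt.homOfLE (inf_le_left : OU ⊓ OV ≤ OU) ≫ σU := IsOpenImmersion.lift_fac _ _ _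
  have htb : t ≫ b = s.pt.homOfLE (inf_le_right : OU ⊓ OV ≤ OV) ≫ σV := hcV.hom_ext fun k => by
    rw [← cancel_mono (pushout.inr (f.app k) (g.app k))]
    simp only [Category.assoc, reassoc_of% hσV, hpV, Scheme.homOfLE_ι_assoc]
    rw [reassoc_of% hb k, ← pushout.condition, ← reassoc_of% ha k, reassoc_of% hta, reassoc_of% hσU, hpU,
      Scheme.homOfLE_ι_assoc]
  let 𝒮 : s.pt.OpenCover := Scheme.Cover.mkOfCovers (ULift.{u} Bool)
    (fun b => cond b.down OU.toScheme OV.toScheme)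
    (fun b => match b with | ⟨true⟩ => OU.ι | ⟨false⟩ => OV.ι)
    (fun x => by
      rcases (hcov.ge (Set.mem_univ x) : x ∈ OU ⊔ OV) with h | h
      · exact ⟨⟨true⟩, ⟨x, h⟩, rfl⟩
      · exact ⟨⟨false⟩, ⟨x, h⟩, rfl⟩)
    (fun b => by rcases b with ⟨_ | _⟩ <;> simp only <;> infer_instance)
  have hglue : pullback.fst OU.ι OV.ι ≫ σU ≫ pushout.inl a b = pullback.snd OU.ι OV.ι ≫ σV ≫ pushout.inr a b := by
    rw [← cancel_epi (isPullback_opens_inf OU OV).isoPullback.hom, IsPullback.isoPullback_hom_fst_assoc,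
      IsPullback.isoPullback_hom_snd_assoc, ← reassoc_of% hta, ← reassoc_of% htb, pushout.condition]
  let G : s.pt ⟶ pushout a b := 𝒮.glueMorphisms
    (fun i => match i with | ⟨true⟩ => σU ≫ pushout.inl a b | ⟨false⟩ => σV ≫ pushout.inr a b) (by
      rintro ⟨_ | _⟩ ⟨_ | _⟩
      · show pullback.fst OV.ι OV.ι ≫ _ = pullback.snd OV.ι OV.ι ≫ _
        rw [fst_eq_snd_of_mono_eq]
      · show pullback.fst OV.ι OU.ι ≫ σV ≫ pushout.inr a b = pullback.snd OV.ι OU.ι ≫ σU ≫ pushout.inl a b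
        rw [← cancel_epi (pullbackSymmetry OU.ι OV.ι).hom, pullbackSymmetry_hom_comp_fst_assoc,
          pullbackSymmetry_hom_comp_snd_assoc, hglue]
      · exact hglue
      · show pullback.fst OU.ι OU.ι ≫ _ = pullback.snd OU.ι OU.ι ≫ _
        rw [fst_eq_snd_of_mono_eq])
  have hGU : OU.ι ≫ G = σU ≫ pushout.inl a b := 𝒮.ι_glueMorphisms _ _ ⟨true⟩
  have hGV : OV.ι ≫ G = σV ≫ pushout.inr a b := 𝒮.ι_glueMorphisms _ _ ⟨false⟩
  refine ⟨G, fun k => 𝒮.hom_ext _ _ ?_⟩
  rintro ⟨_ | _⟩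
  · show OV.ι ≫ G ≫ _ = OV.ι ≫ _
    rw [reassoc_of% hGV, inr_glueCone, reassoc_of% hσV, hpV]
  · show OU.ι ≫ G ≫ _ = OU.ι ≫ _
    rw [reassoc_of% hGU, inl_glueCone, reassoc_of% hσU, hpU]

include hcU hcV hau hbv in
theorem lift_glue_unique {T : Scheme.{u}} (m m' : T ⟶ (glueCone f g cU cV cW a b ha hb).pt)
    (h : ∀ k, m ≫ (glueCone f g cU cV cW a b ha hb).π.app k = m' ≫ (glueCone f g cU cV cW a b ha hb).π.app k) :
    m = m' := by
  have k₀ : K := Classical.arbitrary K
  have := isOpenImmersion_inl a b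
  have := isOpenImmersion_inr a b
  have := fun k => isOpenImmersion_inl (f.app k) (g.app k)
  have := fun k => isOpenImmersion_inr (f.app k) (g.app k)
  let OU : T.Opens := m ⁻¹ᵁ (pushout.inl a b).opensRange
  let OV : T.Opens := m ⁻¹ᵁ (pushout.inr a b).opensRange
  have hh : ∀ (k) (x : T), (glueCone f g cU cV cW a b ha hb).π.app k (m x) = (glueCone f g cU cV cW a b ha hb).π.app k (m' x) :=
    fun k x => congr($(h k) x)
  have hU' : ∀ x ∈ OU, m' x ∈ Set.range (pushout.inl a b) := by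
    rintro x ⟨y, hy⟩
    refine range_inl_of_map_mem _ _ _ _ _ _ _ (ha k₀) (hb k₀) (hbv k₀) _ ?_
    show (glueCone f g cU cV cW a b ha hb).π.app k₀ (m' x) ∈ _
    rw [← hh k₀ x, ← hy]
    show (pushout.inl a b ≫ (glueCone f g cU cV cW a b ha hb).π.app k₀) y ∈ _
    rw [inl_glueCone, Scheme.Hom.comp_apply]
    exact ⟨_, rfl⟩
  have hV' : ∀ x ∈ OV, m' x ∈ Set.range (pushout.inr a b) := by
    rintro x ⟨y, hy⟩
    refine range_inr_of_map_mem _ _ _ _ _ _ _ (ha k₀) (hb k₀) (hau k₀) _ ?_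
    show (glueCone f g cU cV cW a b ha hb).π.app k₀ (m' x) ∈ _
    rw [← hh k₀ x, ← hy]
    show (pushout.inr a b ≫ (glueCone f g cU cV cW a b ha hb).π.app k₀) y ∈ _
    rw [inr_glueCone, Scheme.Hom.comp_apply]
    exact ⟨_, rfl⟩
  have eU : OU.ι ≫ m = OU.ι ≫ m' := by
    let n : OU.toScheme ⟶ cU.pt := IsOpenImmersion.lift (pushout.inl a b) (OU.ι ≫ m) (by rintro _ ⟨x, rfl⟩; exact x.2)
    let n' : OU.toScheme ⟶ cU.pt := IsOpenImmersion.lift (pushout.inl a b) (OU.ι ≫ m') (by rintro _ ⟨x, rfl⟩; exact hU' x.1 x.2)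
    have e1 : n ≫ pushout.inl a b = OU.ι ≫ m := IsOpenImmersion.lift_fac _ _ _
    have e2 : n' ≫ pushout.inl a b = OU.ι ≫ m' := IsOpenImmersion.lift_fac _ _ _
    rw [← e1, ← e2, hcU.hom_ext (f := n) (f' := n') fun k => by
      rw [← cancel_mono (pushout.inl (f.app k) (g.app k))]
      simp only [Category.assoc]
      rw [← inl_glueCone f g cU cV cW a b ha hb k, reassoc_of% e1, reassoc_of% e2, h k]]
  have eV : OV.ι ≫ m = OV.ι ≫ m' := by
    let n : OV.toScheme ⟶ cV.pt := IsOpenImmersion.lift (pushout.inr a b) (OV.ι ≫ m) (by rintro _ ⟨x, rfl⟩; exact x.2)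
    let n' : OV.toScheme ⟶ cV.pt := IsOpenImmersion.lift (pushout.inr a b) (OV.ι ≫ m') (by rintro _ ⟨x, rfl⟩; exact hV' x.1 x.2)
    have e1 : n ≫ pushout.inr a b = OV.ι ≫ m := IsOpenImmersion.lift_fac _ _ _
    have e2 : n' ≫ pushout.inr a b = OV.ι ≫ m' := IsOpenImmersion.lift_fac _ _ _
    rw [← e1, ← e2, hcV.hom_ext (f := n) (f' := n') fun k => by
      rw [← cancel_mono (pushout.inr (f.app k) (g.app k))]
      simp only [Category.assoc]
      rw [← inr_glueCone f g cU cV cW a b ha hb k, reassoc_of% e1, reassoc_of% e2, h k]]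
  refine (Scheme.Cover.mkOfCovers (ULift.{u} Bool) (fun i => cond i.down OU.toScheme OV.toScheme)
    (fun i => match i with | ⟨true⟩ => OU.ι | ⟨false⟩ => OV.ι)
    (fun x => by
      rcases (inl_range_sup_inr_range a b).ge (Set.mem_univ (m x)) with h | h
      · exact ⟨⟨true⟩, ⟨x, h⟩, rfl⟩
      · exact ⟨⟨false⟩, ⟨x, h⟩, rfl⟩)
    (fun i => by rcases i with ⟨_ | _⟩ <;> simp only <;> infer_instance) : T.OpenCover).hom_ext _ _ ?_
  rintro ⟨_ | _⟩
  · exact eV
  · exact eU

/-- **Limits glue.** -/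
noncomputable def isLimitGlueCone
    (hf : ∀ {k l : K} (φ : k ⟶ l), DU.map φ ⁻¹' Set.range (f.app l) ⊆ Set.range (f.app k))
    (hg : ∀ {k l : K} (φ : k ⟶ l), DV.map φ ⁻¹' Set.range (g.app l) ⊆ Set.range (g.app k))
    (hcU : IsLimit cU) (hcV : IsLimit cV)
    (hau : ∀ k, cU.π.app k ⁻¹' Set.range (f.app k) ⊆ Set.range a)
    (hbv : ∀ k, cV.π.app k ⁻¹' Set.range (g.app k) ⊆ Set.range b) :
    IsLimit (glueCone f g cU cV cW a b ha hb) where
  lift s := (exists_lift_glue f g hf hg cU cV cW a b ha hb hcU hcV hau s).choose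
  fac s := (exists_lift_glue f g hf hg cU cV cW a b ha hb hcU hcV hau s).choose_spec
  uniq s _ hm := lift_glue_unique f g cU cV cW a b ha hb hcU hcV hau hbv _ _ fun k =>
    (hm k).trans ((exists_lift_glue f g hf hg cU cV cW a b ha hb hcU hcV hau s).choose_spec k).symm

end glue

end Groth.Agent.AbsApprox
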