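import Groth.Agent.AbsApprox.Basic
import Groth.Agent.LimClosed.FTIdeals

/-!
A closed subscheme of a limit is the limit of finitely presented closed subschemes of the stages.
-/

set_option autoImplicit false
set_option backward.isDefEq.respectTransparency false
universe u
open CategoryTheory CategoryTheory.Limits AlgebraicGeometry Opposite

namespace Groth.Agent.AbsApprox

open LimClosed (FTBelow)

theorem apply_congr {A B : CommRingCat.{u}} {φ ψ : A ⟶ B} (h : φ = ψ) (a : A) : φ a = ψ a := h ▸ rfl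

theorem fg_ker_ideal_of_lfp {Z X : Scheme.{u}} (i : Z ⟶ X) [IsClosedImmersion i] [LocallyOfFinitePresentation i]
    (U : X.affineOpens) : (i.ker.ideal U).FG := by
  rw [Scheme.Hom.ker_apply]
  have h1 : Function.Surjective (i.app U.1).hom := i.app_surjective U.1 U.2
  have h2 : (i.app U.1).hom.FinitePresentation := by
    have := LocallyOfFinitePresentation.finitePresentation_appLE i U.2 (U.2.preimage i) le_rfl
    rwa [← i.app_eq_appLE] at this
  algebraize [(i.app U.1).hom]
  exact Algebra.FinitePresentation.ker_fG_of_surjective (Algebra.ofId Γ(X, U.1) Γ(Z, i ⁻¹ᵁ U.1)) h1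

theorem fg_comap {X Y : Scheme.{u}} (f : X ⟶ Y) (L : Y.IdealSheafData) (h : ∀ V, (L.ideal V).FG)
    (U : X.affineOpens) : ((L.comap f).ideal U).FG := by
  haveI : LocallyOfFinitePresentation L.subschemeι := GrpdFit.lfp_subschemeι L fun x => by
    obtain ⟨V, hV, hxV, -⟩ := exists_isAffineOpen_mem_and_subset (x := x) (U := (⊤ : Y.Opens)) trivial
    exact ⟨⟨V, hV⟩, hxV, h _⟩
  exact fg_ker_ideal_of_lfp (pullback.fst f L.subschemeι) U

variable {K : Type u} [Preorder K] (E : Kᵒᵖ ⥤ Scheme.{u}) (d : Cone E) {X : Scheme.{u}} (g : X ⟶ d.pt)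

/-- the ideal of the image at a stage -/
noncomputable abbrev kerAt (k : Kᵒᵖ) : (E.obj k).IdealSheafData := (g ≫ d.π.app k).ker

/-- a stage and a finitely presented closed subscheme containing the image -/
structure Pair : Type u where
  /-- the stage -/
  k : K
  /-- the ideal -/
  L : FTBelow (kerAt E d g (op k))

namespace Pair

variable {E d g}

noncomputable instance : Preorder (Pair E d g) where
  le p q := ∃ h : p.k ≤ q.k, p.L.1.comap (E.map (homOfLE h).op) ≤ q.L.1
  le_refl p := ⟨le_rfl, le_of_eq (by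
    rw [show (homOfLE (le_refl p.k)).op = 𝟙 (op p.k) from rfl, E.map_id, Scheme.IdealSheafData.comap_id])⟩
  le_trans p q r := fun ⟨h, h1⟩ ⟨h', h2⟩ => ⟨h.trans h', by
    rw [show (homOfLE (h.trans h')).op = (homOfLE h').op ≫ (homOfLE h).op from rfl, E.map_comp,
      Scheme.IdealSheafData.comap_comp]
    exact (Scheme.IdealSheafData.comap_mono _ h1).trans h2⟩

theorem ker_le {k l : Kᵒᵖ} (φ : k ⟶ l) {L : (E.obj l).IdealSheafData} (h : L ≤ kerAt E d g l) :
    L.comap (E.map φ) ≤ kerAt E d g k := by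
  rw [← Scheme.IdealSheafData.le_map_iff_comap_le, ← Scheme.Hom.ker_comp, Category.assoc, d.w φ]
  exact h

/-- pairs with larger stage -/
noncomputable def pull (p : Pair E d g) {k : K} (h : p.k ≤ k) : Pair E d g where
  k := k
  L := ⟨p.L.1.comap (E.map (homOfLE h).op), ker_le _ p.L.2.1, fg_comap _ _ p.L.2.2⟩

theorem le_pull (p : Pair E d g) {k : K} (h : p.k ≤ k) : p ≤ p.pull h := ⟨h, le_rfl⟩

/-- join at the same stage -/
noncomputable def join (k : K) (L L' : FTBelow (kerAt E d g (op k))) : Pair E d g where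
  k := k
  L := ⟨L.1 ⊔ L'.1, sup_le L.2.1 L'.2.1, fun V => by
    rw [Scheme.IdealSheafData.ideal_sup]; exact Submodule.FG.sup (L.2.2 V) (L'.2.2 V)⟩

theorem le_of_le_fibre {k : K} {L L' : FTBelow (kerAt E d g (op k))} (h : L.1 ≤ L'.1) : (⟨k, L⟩ : Pair E d g) ≤ ⟨k, L'⟩ :=
  ⟨le_rfl, by rw [show (homOfLE (le_refl k)).op = 𝟙 (op k) from rfl, E.map_id, Scheme.IdealSheafData.comap_id]; exact h⟩

instance [IsDirected K (fun a b => a ≤ b)] : IsDirected (Pair E d g) (fun a b => a ≤ b) := ⟨fun p q => by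
  obtain ⟨k, hp, hq⟩ := exists_ge_ge p.k q.k
  exact ⟨join k (p.pull hp).L (q.pull hq).L,
    (p.le_pull hp).trans (le_of_le_fibre (k := k) (L := (p.pull hp).L) le_sup_left),
    (q.le_pull hq).trans (le_of_le_fibre (k := k) (L := (q.pull hq).L) le_sup_right)⟩⟩

/-- the pair without equations -/
noncomputable def whole (k : K) : Pair E d g where
  k := k
  L := ⟨⊥, bot_le, fun V => by rw [Scheme.IdealSheafData.ideal_bot]; exact Submodule.fg_bot⟩

theorem whole_le (p : Pair E d g) : whole p.k ≤ p := le_of_le_fibre bot_le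

theorem whole_mono {k k' : K} (h : k ≤ k') : (whole k : Pair E d g) ≤ whole k' :=
  ⟨h, (Scheme.IdealSheafData.comap_bot _).le.trans bot_le⟩

instance [Nonempty K] : Nonempty (Pair E d g) := ⟨whole (Classical.arbitrary K)⟩

theorem exists_le (p q : Pair E d g) (h : p ≤ q) :
    p.L.1.subschemeι.ker ≤ (q.L.1.subschemeι ≫ E.map (homOfLE h.1).op).ker := by
  rw [Scheme.IdealSheafData.ker_subschemeι, Scheme.Hom.ker_comp, Scheme.IdealSheafData.ker_subschemeι,
    Scheme.IdealSheafData.le_map_iff_comap_le]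
  exact h.2

end Pair

/-- the system of finitely presented closed subschemes of the stages -/
noncomputable def pairDiagram : (Pair E d g)ᵒᵖ ⥤ Scheme.{u} where
  obj p := p.unop.L.1.subscheme
  map {p q} φ := IsClosedImmersion.lift q.unop.L.1.subschemeι
    (p.unop.L.1.subschemeι ≫ E.map (homOfLE (leOfHom φ.unop).1).op) (Pair.exists_le _ _ (leOfHom φ.unop))
  map_id p := by
    rw [← cancel_mono p.unop.L.1.subschemeι, IsClosedImmersion.lift_fac, Category.id_comp,
      show (homOfLE (leOfHom (𝟙 p : p ⟶ p).unop).1).op = 𝟙 (op p.unop.k) from rfl, E.map_id, Category.comp_id]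
  map_comp {p q r} φ ψ := by
    rw [← cancel_mono r.unop.L.1.subschemeι, Category.assoc, IsClosedImmersion.lift_fac, IsClosedImmersion.lift_fac,
      IsClosedImmersion.lift_fac_assoc, Category.assoc, ← E.map_comp]
    rfl

/-- the inclusion into the stage -/
theorem pairDiagram_map_ι {p q : (Pair E d g)ᵒᵖ} (φ : p ⟶ q) :
    (pairDiagram E d g).map φ ≫ q.unop.L.1.subschemeι = p.unop.L.1.subschemeι ≫ E.map (homOfLE (leOfHom φ.unop).1).op :=
  IsClosedImmersion.lift_fac _ _ _

theorem isAffineHom_pairDiagram_map [∀ {k l : Kᵒᵖ} (f : k ⟶ l), IsAffineHom (E.map f)]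
    {p q : (Pair E d g)ᵒᵖ} (φ : p ⟶ q) : IsAffineHom ((pairDiagram E d g).map φ) := by
  haveI : IsAffineHom ((pairDiagram E d g).map φ ≫ q.unop.L.1.subschemeι) := by
    rw [pairDiagram_map_ι]; infer_instance
  exact IsAffineHom.of_comp ((pairDiagram E d g).map φ) q.unop.L.1.subschemeι

theorem lfp_subschemeι_pair (p : Pair E d g) : LocallyOfFinitePresentation p.L.1.subschemeι :=
  GrpdFit.lfp_subschemeι p.L.1 fun x => by
    obtain ⟨U, hU, hxU, -⟩ :=
      exists_isAffineOpen_mem_and_subset (x := x) (U := (⊤ : (E.obj (op p.k)).Opens)) trivial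
    exact ⟨⟨U, hU⟩, hxU, p.L.2.2 _⟩

/-- the cone -/
noncomputable def pairCone : Cone (pairDiagram E d g) where
  pt := X
  π :=
  { app := fun p => IsClosedImmersion.lift p.unop.L.1.subschemeι (g ≫ d.π.app (op p.unop.k))
      ((Scheme.IdealSheafData.ker_subschemeι _).le.trans p.unop.L.2.1)
    naturality := fun p q φ => by
      refine (Category.id_comp _).trans ?_
      rw [← cancel_mono q.unop.L.1.subschemeι, IsClosedImmersion.lift_fac, Category.assoc, pairDiagram_map_ι,
        IsClosedImmersion.lift_fac_assoc, Category.assoc, d.w] }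

theorem pairCone_ι (p : (Pair E d g)ᵒᵖ) :
    (pairCone E d g).π.app p ≫ p.unop.L.1.subschemeι = g ≫ d.π.app (op p.unop.k) :=
  IsClosedImmersion.lift_fac _ _ _

theorem isAffineHom_pairCone [IsAffineHom g] [∀ k, IsAffineHom (d.π.app k)] (p : (Pair E d g)ᵒᵖ) :
    IsAffineHom ((pairCone E d g).π.app p) := by
  haveI : IsAffineHom ((pairCone E d g).π.app p ≫ p.unop.L.1.subschemeι) := by
    rw [pairCone_ι]; infer_instance
  exact IsAffineHom.of_comp ((pairCone E d g).π.app p) p.unop.L.1.subschemeι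

variable [IsDirected K (fun a b => a ≤ b)] [Nonempty K] (hd : IsLimit d)
  [∀ {k l : Kᵒᵖ} (f : k ⟶ l), IsAffineHom (E.map f)]
  [∀ k, CompactSpace (E.obj k)] [∀ k, QuasiSeparatedSpace (E.obj k)] [IsClosedImmersion g]

/-- the cone on the stages underlying a cone on the pairs -/
noncomputable def stageCone (s : Cone (pairDiagram E d g)) : Cone E where
  pt := s.pt
  π :=
  { app := fun k => s.π.app (op (Pair.whole k.unop)) ≫ (Pair.whole k.unop : Pair E d g).L.1.subschemeι
    naturality := fun k l φ => by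
      refine (Category.id_comp _).trans ?_
      have h := s.w (homOfLE (Pair.whole_mono (E := E) (d := d) (g := g) (leOfHom φ.unop))).op
      rw [← h, Category.assoc, pairDiagram_map_ι, ← Category.assoc]
      rfl }

theorem stageCone_eq (s : Cone (pairDiagram E d g)) (p : (Pair E d g)ᵒᵖ) :
    (stageCone E d g s).π.app (op p.unop.k) = s.π.app p ≫ p.unop.L.1.subschemeι := by
  have h := s.w (homOfLE (Pair.whole_le p.unop)).op
  show s.π.app (op (Pair.whole p.unop.k)) ≫ _ = _
  rw [← h, Category.assoc, pairDiagram_map_ι, show (homOfLE (leOfHom (homOfLE (Pair.whole_le p.unop)).op.unop).1).op =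
    𝟙 (op p.unop.k) from rfl, E.map_id, Category.comp_id]

include hd in
theorem ker_le_of_factors {T : Scheme.{u}} (σ : T ⟶ d.pt) [QuasiCompact σ]
    (hfac : ∀ p : Pair E d g, ∃ τ, τ ≫ p.L.1.subschemeι = σ ≫ d.π.app (op p.k)) : g.ker ≤ σ.ker := by
  classical
  haveI : IsCofiltered Kᵒᵖ := isCofiltered_op_of_isFiltered _
  let k₀ : Kᵒᵖ := op (Classical.arbitrary K)
  haveI := isAffineHom_π_app E d hd
  let 𝒱 : (E.obj k₀).affineOpens → d.pt.affineOpens := fun V => ⟨d.π.app k₀ ⁻¹ᵁ V.1, V.2.preimage _⟩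
  refine Scheme.IdealSheafData.le_of_iSup_eq_top 𝒱 ?_ fun V a ha => ?_
  · refine top_le_iff.1 fun x _ => ?_
    obtain ⟨_, ⟨V, hV, rfl⟩, hxV, -⟩ :=
      (E.obj k₀).isBasis_affineOpens.exists_subset_of_mem_open (Set.mem_univ (d.π.app k₀ x)) isOpen_univ
    exact TopologicalSpace.Opens.mem_iSup.2 ⟨⟨V, hV⟩, hxV⟩
  haveI : ∀ l : Over k₀, IsAffine ((opensDiagram E k₀ V.1).obj l) := fun l => V.2.preimage (E.map l.hom)
  let e : (d.π.app k₀ ⁻¹ᵁ V.1).ι ''ᵁ ⊤ = d.π.app k₀ ⁻¹ᵁ V.1 := Scheme.Opens.ι_image_top _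
  obtain ⟨l, al, hal⟩ := exists_appTop_π_eq_of_isAffine_of_isLimit _ _ (isLimitOpensCone E d hd k₀ V.1)
    (d.pt.presheaf.map (eqToHom e).op a)
  let Vl : (E.obj l.left).Opens := E.map l.hom ⁻¹ᵁ V.1
  have hVl : d.π.app l.left ⁻¹ᵁ Vl = d.π.app k₀ ⁻¹ᵁ V.1 := by rw [← Scheme.Hom.comp_preimage, d.w]
  let a' : Γ(E.obj l.left, Vl) := (E.obj l.left).presheaf.map (eqToHom (Scheme.Opens.ι_image_top Vl).symm).op al
  have key : (d.π.app l.left).appLE Vl (d.π.app k₀ ⁻¹ᵁ V.1) hVl.ge a' = a := by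
    have h2 := congrArg (fun z => d.pt.presheaf.map (eqToHom e.symm).op z) hal
    simp only [← ConcreteCategory.comp_apply, ← Functor.map_comp, ← op_comp, eqToHom_trans, eqToHom_refl, op_id,
      CategoryTheory.Functor.map_id, ConcreteCategory.id_apply] at h2
    refine Eq.trans ?_ h2
    simp only [a']
    simp only [← ConcreteCategory.comp_apply]
    refine Eq.trans (apply_congr (ψ := ((opensCone E d k₀ V.1).π.app l).appTop ≫
      d.pt.presheaf.map (eqToHom e.symm).op) ?_ al) rfl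
    simp [opensCone, Scheme.Hom.resLE_appLE, Scheme.Hom.app_eq_appLE]
    rfl
  rw [← key]
  have ha' : a' ∈ (kerAt E d g l.left).ideal ⟨Vl, V.2.preimage (E.map l.hom)⟩ := by
    simp only [Scheme.Hom.ker_apply, RingHom.mem_ker] at ha ⊢
    rw [← key] at ha
    have h3 := congrArg (fun z => X.presheaf.map (eqToHom (congrArg (g ⁻¹ᵁ ·) hVl)).op z) ha
    simp only [map_zero] at h3
    refine Eq.trans ?_ h3
    change ((g ≫ d.π.app l.left).app Vl) a' = ((d.π.app l.left).appLE Vl _ _ ≫ g.app _ ≫ X.presheaf.map _) a'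
    refine apply_congr ?_ a'
    simp [Scheme.Hom.app_eq_appLE, Scheme.Hom.appLE_comp_appLE, -Scheme.Hom.comp_appLE]
  obtain ⟨L, hL, hfg, haL⟩ := LimClosed.exists_ft_le (kerAt E d g l.left) ⟨Vl, V.2.preimage (E.map l.hom)⟩ a' ha'
  let p : (Pair E d g)ᵒᵖ := op ⟨l.left.unop, ⟨L, hL, hfg⟩⟩
  obtain ⟨τ, hτ⟩ := hfac p.unop
  have hσ : σ ≫ d.π.app l.left = τ ≫ L.subschemeι := hτ.symm
  have hle : L ≤ (σ ≫ d.π.app l.left).ker := by
    rw [hσ]; exact (Scheme.IdealSheafData.ker_subschemeι L).symm.le.trans (Scheme.Hom.le_ker_comp _ _)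
  have h4 := hle ⟨Vl, V.2.preimage (E.map l.hom)⟩ haL
  rw [Scheme.Hom.ker_apply, RingHom.mem_ker] at h4 ⊢
  have h5 := congrArg (fun z => T.presheaf.map (eqToHom (congrArg (σ ⁻¹ᵁ ·) hVl).symm).op z) h4
  simp only [map_zero, ← ConcreteCategory.comp_apply] at h5
  refine Eq.trans ?_ h5
  change ((d.π.app l.left).appLE Vl _ _ ≫ σ.app _) a' =
    ((σ ≫ d.π.app l.left).app Vl ≫ T.presheaf.map _) a'
  refine apply_congr ?_ a'
  simp [Scheme.Hom.app_eq_appLE, Scheme.Hom.appLE_comp_appLE, -Scheme.Hom.comp_appLE]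
  rfl

include hd in
theorem ker_le_ker_lift (s : Cone (pairDiagram E d g)) : g.ker ≤ (hd.lift (stageCone E d g s)).ker := by
  haveI : IsCofiltered Kᵒᵖ := isCofiltered_op_of_isFiltered _
  let k₀ : Kᵒᵖ := op (Classical.arbitrary K)
  haveI := isAffineHom_π_app E d hd k₀
  haveI : QuasiSeparatedSpace d.pt := quasiSeparatedSpace_of_quasiSeparated (d.π.app k₀)
  let σ := hd.lift (stageCone E d g s)
  rw [← Scheme.IdealSheafData.map_bot σ, Scheme.IdealSheafData.le_map_iff_comap_le, le_bot_iff]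
  refine GrpdFit.eq_of_comap_opens (fun O : s.pt.affineOpens => (O : s.pt.Opens)) ?_ _ _ fun O => ?_
  · refine top_le_iff.1 fun x _ => ?_
    obtain ⟨_, ⟨V, hV, rfl⟩, hxV, -⟩ := s.pt.isBasis_affineOpens.exists_subset_of_mem_open (Set.mem_univ x) isOpen_univ
    exact TopologicalSpace.Opens.mem_iSup.2 ⟨⟨V, hV⟩, hxV⟩
  · haveI : IsAffine (O : s.pt.Opens).toScheme := O.2
    haveI : QuasiCompact ((O : s.pt.Opens).ι ≫ σ) := quasiCompact_of_compactSpace _
    rw [← Scheme.IdealSheafData.comap_comp, Scheme.IdealSheafData.comap_bot, ← le_bot_iff,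
      ← Scheme.IdealSheafData.le_map_iff_comap_le, Scheme.IdealSheafData.map_bot]
    refine ker_le_of_factors E d g hd _ fun p => ⟨(O : s.pt.Opens).ι ≫ s.π.app (op p), ?_⟩
    rw [Category.assoc, Category.assoc]
    exact congrArg ((O : s.pt.Opens).ι ≫ ·) ((stageCone_eq E d g s (op p)).symm.trans (hd.fac _ _).symm)

/-- **A closed subscheme of a limit is the limit of finitely presented closed subschemes of stages.** -/
noncomputable def isLimitPairCone (hd : IsLimit d) : IsLimit (pairCone E d g) where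
  lift s := IsClosedImmersion.lift g (hd.lift (stageCone E d g s)) (ker_le_ker_lift E d g hd s)
  fac s p := by
    rw [← cancel_mono p.unop.L.1.subschemeι, Category.assoc, pairCone_ι, IsClosedImmersion.lift_fac_assoc, hd.fac,
      stageCone_eq]
  uniq s m hm := by
    rw [← cancel_mono g, IsClosedImmersion.lift_fac]
    refine hd.hom_ext fun k => ?_
    rw [hd.fac, Category.assoc]
    show m ≫ g ≫ d.π.app k = s.π.app (op (Pair.whole k.unop)) ≫ _
    rw [← hm, Category.assoc, pairCone_ι]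
    rfl

end Groth.Agent.AbsApprox
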