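import Groth.Agent.AbsApprox.PairLim

/-!
# Cofinal sets of pairs as diagrams over the base
-/

set_option autoImplicit false
set_option backward.isDefEq.respectTransparency false

universe u

open CategoryTheory CategoryTheory.Limits AlgebraicGeometry Opposite

namespace Groth.Agent.AbsApprox

variable {K : Type u} [Preorder K] (E : Kᵒᵖ ⥤ Scheme.{u}) (d : Cone E) {X : Scheme.{u}} (g : X ⟶ d.pt)
  {S : Scheme.{u}} (t : ∀ k, E.obj k ⟶ S) (ht : ∀ {k l : Kᵒᵖ} (a : k ⟶ l), E.map a ≫ t l = t k)
  (s : X ⟶ S) (hs : ∀ k, g ≫ d.π.app k ≫ t k = s)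
  {I : Type u} [Preorder I] (F : I →o Pair E d g)

/-- the diagram over the base -/
noncomputable def pairOverDiagram : Iᵒᵖ ⥤ Over S where
  obj q := Over.mk ((F q.unop).L.1.subschemeι ≫ t (op (F q.unop).k))
  map {p q} φ := Over.homMk ((pairDiagram E d g).map (homOfLE (F.monotone (leOfHom φ.unop))).op)
    (by
      dsimp only [Over.mk]
      show (pairDiagram E d g).map _ ≫ (F q.unop).L.1.subschemeι ≫ t _ = _
      rw [← Category.assoc]
      refine (congrArg (· ≫ t _) (pairDiagram_map_ι E d g _)).trans ?_
      rw [Category.assoc, ht]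
      rfl)
  map_id p := Over.OverMorphism.ext ((pairDiagram E d g).map_id _)
  map_comp φ ψ := Over.OverMorphism.ext ((pairDiagram E d g).map_comp
    (homOfLE (F.monotone (leOfHom φ.unop))).op (homOfLE (F.monotone (leOfHom ψ.unop))).op)

/-- the cone over the base -/
noncomputable def pairOverCone : Cone (pairOverDiagram E d g t ht F) where
  pt := Over.mk s
  π :=
  { app := fun q => Over.homMk ((pairCone E d g).π.app (op (F q.unop)))
      (by
        show (pairCone E d g).π.app (op (F q.unop)) ≫ (F q.unop).L.1.subschemeι ≫ t (op (F q.unop).k) = s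
        rw [← Category.assoc]
        refine (congrArg (· ≫ t _) (pairCone_ι E d g _)).trans ?_
        rw [Category.assoc]; exact hs _)
    naturality := fun p q φ => Over.OverMorphism.ext
      ((pairCone E d g).π.naturality (homOfLE (F.monotone (leOfHom φ.unop))).op) }

/-- it is a limit -/
noncomputable def isLimitPairOverCone [IsDirected K (fun a b => a ≤ b)] [Nonempty K]
    [∀ {k l : Kᵒᵖ} (f : k ⟶ l), IsAffineHom (E.map f)] [∀ k, CompactSpace (E.obj k)]
    [∀ k, QuasiSeparatedSpace (E.obj k)] [IsDirected I (fun a b => a ≤ b)] [Nonempty I]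
    [IsClosedImmersion g] (hd : IsLimit d) (hF : ∀ p, ∃ q, p ≤ F q) : IsLimit (pairOverCone E d g t ht s hs F) :=
  haveI : F.monotone.functor.op.Initial := final_of_cofinal F hF
  haveI : IsCofiltered Iᵒᵖ := isCofiltered_op_of_isFiltered _
  haveI : CategoryTheory.IsConnected Iᵒᵖ := IsCofiltered.isConnected _
  haveI : ReflectsLimit (pairOverDiagram E d g t ht F) (Over.forget S) := inferInstance
  isLimitOfReflects (Over.forget S)
    (IsLimit.ofIsoLimit ((Functor.Initial.isLimitWhiskerEquiv F.monotone.functor.op (pairCone E d g)).symm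
      (isLimitPairCone E d g hd)) (Cone.ext (Iso.refl _) (fun q => (Category.id_comp _).symm)))

end Groth.Agent.AbsApprox
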