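import Groth.Agent.AbsApprox.Immersion
import Groth.Agent.AbsApprox.PairLim

/-!
A morphism of quasi-compact quasi-separated schemes is a limit of morphisms of finite presentation over a
given system of the target.
-/

set_option autoImplicit false
set_option backward.isDefEq.respectTransparency false
universe u
open CategoryTheory CategoryTheory.Limits AlgebraicGeometry Opposite

namespace Groth.Agent.AbsApprox

section prod

variable {I L : Type u} [Preorder I] [Preorder L] (D : Iᵒᵖ ⥤ Scheme.{u}) (DS : Lᵒᵖ ⥤ Scheme.{u})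

/-- pairs of indices -/
@[ext] structure Idx (I L : Type u) : Type u where
  /-- first index -/
  fst : I
  /-- second index -/
  snd : L

instance : Preorder (Idx I L) where
  le a b := a.fst ≤ b.fst ∧ a.snd ≤ b.snd
  le_refl a := ⟨le_rfl, le_rfl⟩
  le_trans a b c h h' := ⟨h.1.trans h'.1, h.2.trans h'.2⟩

instance [Nonempty I] [Nonempty L] : Nonempty (Idx I L) := ⟨⟨Classical.arbitrary I, Classical.arbitrary L⟩⟩

/-- the two projections of indices -/
def fstI : Idx I L →o I := ⟨Idx.fst, fun _ _ h => h.1⟩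

/-- the two projections of indices -/
def sndI : Idx I L →o L := ⟨Idx.snd, fun _ _ h => h.2⟩

/-- terminal maps -/
noncomputable abbrev toZ (Y : Scheme.{u}) : Y ⟶ Spec (CommRingCat.of (ULift.{u} ℤ)) :=
  Limits.IsTerminal.from specULiftZIsTerminal Y

/-- products of stages -/
noncomputable def prodDiagram : (Idx I L)ᵒᵖ ⥤ Scheme.{u} where
  obj p := Limits.pullback (toZ ((fstI.monotone.functor.op ⋙ D).obj p)) (toZ ((sndI.monotone.functor.op ⋙ DS).obj p))
  map φ := pullback.map _ _ _ _ ((fstI.monotone.functor.op ⋙ D).map φ) ((sndI.monotone.functor.op ⋙ DS).map φ) (𝟙 _)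
    (specULiftZIsTerminal.hom_ext _ _) (specULiftZIsTerminal.hom_ext _ _)
  map_id p := by
    apply pullback.hom_ext
    · simp only [pullback.lift_fst, Category.id_comp, CategoryTheory.Functor.map_id, Category.comp_id]
    · simp only [pullback.lift_snd, Category.id_comp, CategoryTheory.Functor.map_id, Category.comp_id]
  map_comp φ ψ := by
    apply pullback.hom_ext
    · simp only [pullback.lift_fst, Category.assoc, pullback.lift_fst_assoc, CategoryTheory.Functor.map_comp]
    · simp only [pullback.lift_snd, Category.assoc, pullback.lift_snd_assoc, CategoryTheory.Functor.map_comp]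

/-- the second projection -/
noncomputable def prodSnd : prodDiagram D DS ⟶ sndI.monotone.functor.op ⋙ DS where
  app p := pullback.snd _ _
  naturality p q φ := pullback.lift_snd _ _ _

variable (c : Cone D) (cS : Cone DS)

/-- the cone of the product -/
noncomputable def prodCone : Cone (prodDiagram D DS) where
  pt := Limits.pullback (toZ c.pt) (toZ cS.pt)
  π :=
  { app := fun p => pullback.map _ _ _ _ ((c.whisker fstI.monotone.functor.op).π.app p)
      ((cS.whisker sndI.monotone.functor.op).π.app p) (𝟙 _)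
      (specULiftZIsTerminal.hom_ext _ _) (specULiftZIsTerminal.hom_ext _ _)
    naturality := fun p q φ => by
      refine (Category.id_comp _).trans ?_
      apply pullback.hom_ext
      · simp only [prodDiagram, pullback.lift_fst, Category.assoc, pullback.lift_fst_assoc]
        rw [Cone.w]
      · simp only [prodDiagram, pullback.lift_snd, Category.assoc, pullback.lift_snd_assoc]
        rw [Cone.w] }

variable [IsDirected I (fun a b => a ≤ b)] [Nonempty I] [IsDirected L (fun a b => a ≤ b)] [Nonempty L]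

theorem isDirected_prod : IsDirected (Idx I L) (fun a b => a ≤ b) := ⟨fun a b => by
  obtain ⟨i, hi, hi'⟩ := exists_ge_ge a.fst b.fst
  obtain ⟨l, hl, hl'⟩ := exists_ge_ge a.snd b.snd
  exact ⟨⟨i, l⟩, ⟨hi, hl⟩, hi', hl'⟩⟩

/-- the product is the limit -/
noncomputable def isLimitProdCone (hc : IsLimit c) (hcS : IsLimit cS) : IsLimit (prodCone D DS c cS) :=
  haveI := isDirected_prod (I := I) (L := L)
  haveI : (fstI (I := I) (L := L)).monotone.functor.op.Initial :=
    final_of_cofinal fstI fun i => ⟨⟨i, Classical.arbitrary L⟩, le_rfl⟩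
  haveI : (sndI (I := I) (L := L)).monotone.functor.op.Initial :=
    final_of_cofinal sndI fun l => ⟨⟨Classical.arbitrary I, l⟩, le_rfl⟩
  let h1 : IsLimit (c.whisker fstI.monotone.functor.op) := (Functor.Initial.isLimitWhiskerEquiv _ c).symm hc
  let h2 : IsLimit (cS.whisker sndI.monotone.functor.op) := (Functor.Initial.isLimitWhiskerEquiv _ cS).symm hcS
  let s1 : ∀ s : Cone (prodDiagram D DS), Cone (fstI.monotone.functor.op ⋙ D) := fun s =>
    { pt := s.pt
      π := { app := fun p => s.π.app p ≫ pullback.fst _ _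
             naturality := fun p q φ => by
               refine (Category.id_comp _).trans ?_
               rw [← s.w φ, Category.assoc, Category.assoc]
               exact congrArg (s.π.app p ≫ ·) (pullback.lift_fst _ _ _) } }
  let s2 : ∀ s : Cone (prodDiagram D DS), Cone (sndI.monotone.functor.op ⋙ DS) := fun s =>
    { pt := s.pt
      π := { app := fun p => s.π.app p ≫ pullback.snd _ _
             naturality := fun p q φ => by
               refine (Category.id_comp _).trans ?_
               rw [← s.w φ, Category.assoc, Category.assoc]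
               exact congrArg (s.π.app p ≫ ·) (pullback.lift_snd _ _ _) } }
  { lift := fun s => pullback.lift (h1.lift (s1 s)) (h2.lift (s2 s)) (specULiftZIsTerminal.hom_ext _ _)
    fac := fun s p => by
      apply pullback.hom_ext
      · simp only [prodCone, Category.assoc, pullback.lift_fst, pullback.lift_fst_assoc]
        exact h1.fac (s1 s) p
      · simp only [prodCone, Category.assoc, pullback.lift_snd, pullback.lift_snd_assoc]
        exact h2.fac (s2 s) p
    uniq := fun s m hm => by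
      apply pullback.hom_ext
      · rw [pullback.lift_fst]
        refine h1.hom_ext fun p => ?_
        rw [h1.fac]
        show _ = s.π.app p ≫ pullback.fst _ _
        rw [← hm p, Category.assoc, Category.assoc]
        exact congrArg (m ≫ ·) (pullback.lift_fst _ _ _).symm
      · rw [pullback.lift_snd]
        refine h2.hom_ext fun p => ?_
        rw [h2.fac]
        show _ = s.π.app p ≫ pullback.snd _ _
        rw [← hm p, Category.assoc, Category.assoc]
        exact congrArg (m ≫ ·) (pullback.lift_snd _ _ _).symm }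

theorem isAffineHom_prodDiagram_map (h1 : ∀ (i j : Iᵒᵖ) (f : i ⟶ j), IsAffineHom (D.map f))
    (h2 : ∀ (i j : Lᵒᵖ) (f : i ⟶ j), IsAffineHom (DS.map f)) {p q : (Idx I L)ᵒᵖ} (φ : p ⟶ q) :
    IsAffineHom ((prodDiagram D DS).map φ) :=
  MorphismProperty.pullbackMap (P := @IsAffineHom) (h1 _ _ ((fstI (I := I) (L := L)).monotone.functor.op.map φ))
    (h2 _ _ ((sndI (I := I) (L := L)).monotone.functor.op.map φ))
    (specULiftZIsTerminal.hom_ext _ _) (specULiftZIsTerminal.hom_ext _ _)

end prod

/-- restriction of indices above `k₀` -/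
def toOver {K : Type u} [Preorder K] (k₀ : K) : {k : K // k₀ ≤ k}ᵒᵖ ⥤ Over (op k₀) where
  obj j := Over.mk (homOfLE j.unop.2).op
  map {j j'} φ := Over.homMk (homOfLE (leOfHom φ.unop)).op (Subsingleton.elim _ _)
  map_id _ := (by ext; apply Subsingleton.elim)
  map_comp _ _ := (by ext; apply Subsingleton.elim)

theorem initial_toOver {K : Type u} [Preorder K] (k₀ : K) : (toOver k₀).Initial := by
  haveI : (toOver k₀).Faithful := ⟨fun {_ _} _ _ _ => Subsingleton.elim _ _⟩
  haveI : (toOver k₀).Full := ⟨fun {j j'} ψ => ⟨(homOfLE (show j'.unop ≤ j.unop from leOfHom ψ.left.unop)).op,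
    (by ext; apply Subsingleton.elim)⟩⟩
  haveI : (toOver k₀).EssSurj := ⟨fun o => ⟨op ⟨o.left.unop, leOfHom o.hom.unop⟩,
    ⟨Over.isoMk (Iso.refl _) (Subsingleton.elim _ _)⟩⟩⟩
  haveI : (toOver k₀).IsEquivalence := { }
  infer_instance

/-- **Morphisms of quasi-compact quasi-separated schemes as limits over a given system of the target.** -/
theorem exists_limit_over_system {X S : Scheme.{u}} (f : X ⟶ S) [CompactSpace X] [QuasiSeparatedSpace X]
    {L : Type u} [Preorder L] [IsDirected L (fun a b => a ≤ b)] [Nonempty L] (DS : Lᵒᵖ ⥤ Scheme.{u})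
    (cS : Cone DS) (hcS : IsLimit cS) (eS : cS.pt ≅ S) (hDS : ∀ (i j : Lᵒᵖ) (a : i ⟶ j), IsAffineHom (DS.map a))
    [∀ l, CompactSpace (DS.obj l)] [∀ l, QuasiSeparatedSpace (DS.obj l)] :
    ∃ (J : Type u) (_ : Preorder J) (_ : IsDirected J (fun a b => a ≤ b)) (_ : Nonempty J) (F : J →o L)
      (_ : ∀ l : L, ∃ j : J, l ≤ F j) (DX : Jᵒᵖ ⥤ Scheme.{u}) (φ : DX ⟶ F.monotone.functor.op ⋙ DS)
      (cX : Cone DX) (_ : IsLimit cX) (eX : cX.pt ≅ X),
      (∀ (i j : Jᵒᵖ) (a : i ⟶ j), IsAffineHom (DX.map a)) ∧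
      (∀ i, LocallyOfFinitePresentation (φ.app i) ∧ QuasiCompact (φ.app i) ∧ QuasiSeparated (φ.app i)) ∧
      (∀ i, cX.π.app i ≫ φ.app i = eX.hom ≫ f ≫ eS.inv ≫ cS.π.app (F.monotone.functor.op.obj i)) := by
  classical
  obtain ⟨I, _, _, _, D, π, hl, h1, h2, -⟩ := hasApprox X
  let c : Cone D := Cone.mk X π
  haveI := isDirected_prod (I := I) (L := L)
  haveI : IsCofiltered Lᵒᵖ := isCofiltered_op_of_isFiltered _
  haveI : IsCofiltered (Idx I L)ᵒᵖ := isCofiltered_op_of_isFiltered _
  haveI : ∀ {i j : Lᵒᵖ} (a : i ⟶ j), IsAffineHom (DS.map a) := fun a => hDS _ _ a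
  haveI : QuasiSeparatedSpace cS.pt := by
    haveI := isAffineHom_π_app DS cS hcS (op (Classical.arbitrary L))
    exact quasiSeparatedSpace_of_quasiSeparated (cS.π.app (op (Classical.arbitrary L)))
  haveI : IsLocallyNoetherian (Spec (CommRingCat.of (ULift.{u} ℤ))) := by
    have : IsNoetherianRing (ULift.{u} ℤ) := isNoetherianRing_of_ringEquiv ℤ ULift.ringEquiv.symm
    infer_instance
  haveI : ∀ {p q : (Idx I L)ᵒᵖ} (a : p ⟶ q), IsAffineHom ((prodDiagram D DS).map a) :=
    fun a => isAffineHom_prodDiagram_map D DS h1 hDS a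
  have hfst : ∀ i, LocallyOfFinitePresentation (toZ (D.obj i)) ∧ QuasiCompact (toZ (D.obj i)) ∧
      QuasiSeparated (toZ (D.obj i)) := fun i => by
    haveI : CompactSpace (D.obj i) := (h2 i).1
    haveI : IsLocallyNoetherian (D.obj i) := isLocallyNoetherian_of_lft (h2 i).2
    haveI : LocallyOfFiniteType (toZ (D.obj i)) := (h2 i).2
    exact ⟨lfp_of_lft_noetherian _, quasiCompact_of_compactSpace _, QuasiSeparated.of_quasiSeparatedSpace _⟩
  have hsnd : ∀ p : (Idx I L)ᵒᵖ, LocallyOfFinitePresentation ((prodSnd D DS).app p) ∧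
      QuasiCompact ((prodSnd D DS).app p) ∧ QuasiSeparated ((prodSnd D DS).app p) := fun p => by
    obtain ⟨_, _, _⟩ := hfst ((fstI (I := I) (L := L)).monotone.functor.op.obj p)
    haveI : LocallyOfFinitePresentation (toZ ((fstI.monotone.functor.op ⋙ D).obj p)) := (hfst _).1
    haveI : QuasiCompact (toZ ((fstI.monotone.functor.op ⋙ D).obj p)) := (hfst _).2.1
    haveI : QuasiSeparated (toZ ((fstI.monotone.functor.op ⋙ D).obj p)) := (hfst _).2.2
    exact ⟨inferInstanceAs (LocallyOfFinitePresentation (pullback.snd _ _)),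
      inferInstanceAs (QuasiCompact (pullback.snd _ _)), inferInstanceAs (QuasiSeparated (pullback.snd _ _))⟩
  haveI : ∀ p, CompactSpace ((prodDiagram D DS).obj p) := fun p =>
    haveI : CompactSpace ((sndI.monotone.functor.op ⋙ DS).obj p) := inferInstanceAs (CompactSpace (DS.obj _))
    haveI := (hsnd p).2.1
    QuasiCompact.compactSpace_of_compactSpace ((prodSnd D DS).app p)
  haveI : ∀ p, QuasiSeparatedSpace ((prodDiagram D DS).obj p) := fun p =>
    haveI : QuasiSeparatedSpace ((sndI.monotone.functor.op ⋙ DS).obj p) := inferInstanceAs (QuasiSeparatedSpace (DS.obj _))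
    haveI := (hsnd p).2.2
    quasiSeparatedSpace_of_quasiSeparated ((prodSnd D DS).app p)
  let d := prodCone D DS c cS
  let hd : IsLimit d := isLimitProdCone D DS c cS hl hcS
  -- the graph
  let Γf : X ⟶ d.pt := pullback.lift (𝟙 X) (f ≫ eS.inv) (specULiftZIsTerminal.hom_ext _ _)
  haveI : IsImmersion Γf := by
    haveI : IsImmersion (Γf ≫ pullback.fst _ _) := by rw [pullback.lift_fst]; infer_instance
    exact IsImmersion.of_comp Γf (pullback.fst _ _)
  obtain ⟨O, hOc, hOr, hOb⟩ : ∃ O : d.pt.Opens, IsCompact (O : Set d.pt) ∧ Set.range Γf ⊆ O ∧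
      O ≤ Γf.coborderRange := by
    obtain ⟨s, hs, hsf, hsU⟩ := (isCompact_range Γf.continuous).elim_finite_subcover_image
      (b := {V : d.pt.affineOpens | (V : d.pt.Opens) ≤ Γf.coborderRange}) (c := fun V => ((V : d.pt.Opens) : Set d.pt))
      (fun V _ => (V : d.pt.Opens).2) (fun y hy => by
        obtain ⟨_, ⟨V, hV, rfl⟩, hyV, hVs⟩ := d.pt.isBasis_affineOpens.exists_subset_of_mem_open
          (show y ∈ (Γf.coborderRange : Set d.pt) from subset_coborder hy) Γf.coborderRange.2
        exact Set.mem_iUnion₂.2 ⟨⟨V, hV⟩, hVs, hyV⟩)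
    refine ⟨⨆ V ∈ s, (V : d.pt.Opens), ?_, fun y hy => ?_, iSup₂_le fun V hV => hs hV⟩
    · simp only [TopologicalSpace.Opens.coe_iSup]
      exact hsf.isCompact_biUnion fun V _ => V.2.isCompact
    · simpa using hsU hy
  let g : X ⟶ O.toScheme := IsOpenImmersion.lift O.ι Γf (by rw [Scheme.Opens.range_ι]; exact hOr)
  have hg : g ≫ O.ι = Γf := IsOpenImmersion.lift_fac _ _ _
  haveI : IsClosedImmersion g := by
    haveI : IsPreimmersion (g ≫ O.ι) := by rw [hg]; infer_instance
    haveI : IsPreimmersion g := IsPreimmersion.of_comp g O.ι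
    refine IsClosedImmersion.of_isPreimmersion g ?_
    have hr : Set.range g = O.ι ⁻¹' Set.range Γf := by
      rw [← hg]
      ext x
      exact ⟨fun ⟨y, hy⟩ => ⟨y, by rw [Scheme.Hom.comp_apply, hy]⟩,
        fun ⟨y, hy⟩ => ⟨y, O.ι.isOpenEmbedding.injective hy⟩⟩
    have hr' : Set.range g = O.ι ⁻¹' closure (Set.range Γf) := by
      rw [hr]
      refine subset_antisymm (Set.preimage_mono subset_closure) fun x hx => ?_
      show O.ι x ∈ Set.range Γf
      have h3 : O.ι x ∈ (coborder (Set.range Γf) ∩ closure (Set.range Γf)) := ⟨hOb x.2, hx⟩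
      rwa [coborder_inter_closure] at h3
    rw [hr']
    exact isClosed_closure.preimage O.ι.continuous
  -- stages of the open
  obtain ⟨⟨k₀⟩, O₀, hO₀, hO₀'⟩ := exists_preimage_eq (prodDiagram D DS) d hd O hOc
  let K := {k : Idx I L // k₀ ≤ k}
  haveI : Nonempty K := ⟨⟨k₀, le_rfl⟩⟩
  haveI : IsDirected K (fun a b => a ≤ b) := ⟨fun a b => by
    obtain ⟨e, he, he'⟩ := exists_ge_ge a.1 b.1
    exact ⟨⟨e, a.2.trans he⟩, he, he'⟩⟩
  haveI := initial_toOver k₀
  let E := toOver k₀ ⋙ opensDiagram (prodDiagram D DS) (op k₀) O₀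
  let dE : Cone E := (opensCone (prodDiagram D DS) d (op k₀) O₀).whisker (toOver k₀)
  let hdE : IsLimit dE := (Functor.Initial.isLimitWhiskerEquiv (toOver k₀) _).symm
    (isLimitOpensCone (prodDiagram D DS) d hd (op k₀) O₀)
  haveI : ∀ {k k' : Kᵒᵖ} (a : k ⟶ k'), IsAffineHom (E.map a) := fun a =>
    inferInstanceAs (IsAffineHom ((opensDiagram (prodDiagram D DS) (op k₀) O₀).map _))
  haveI : ∀ k, CompactSpace (E.obj k) := fun k => isCompact_iff_compactSpace.mp
    (((prodDiagram D DS).map (homOfLE k.unop.2).op).isCompact_preimage hO₀)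
  haveI : ∀ k, QuasiSeparatedSpace (E.obj k) := fun k =>
    (isQuasiSeparated_iff_quasiSeparatedSpace _ ((prodDiagram D DS).map (homOfLE k.unop.2).op ⁻¹ᵁ O₀).2).mp
      (.of_quasiSeparatedSpace _)
  let g' : X ⟶ dE.pt := g ≫ (d.pt.isoOfEq hO₀'.symm).hom
  haveI : IsClosedImmersion g' := inferInstanceAs (IsClosedImmersion (g ≫ (d.pt.isoOfEq hO₀'.symm).hom))
  let F : Pair E dE g' →o L := ⟨fun p => p.k.1.snd, fun p q h => h.1.2⟩
  have hF : ∀ l : L, ∃ p, l ≤ F p := fun l => by
    obtain ⟨l', hl, hl'⟩ := exists_ge_ge l k₀.snd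
    exact ⟨Pair.whole ⟨⟨k₀.fst, l'⟩, ⟨le_rfl, hl'⟩⟩, hl⟩
  let φ : pairDiagram E dE g' ⟶ F.monotone.functor.op ⋙ DS :=
    { app := fun p => p.unop.L.1.subschemeι ≫ ((prodDiagram D DS).map (homOfLE p.unop.k.2).op ⁻¹ᵁ O₀).ι ≫
        (prodSnd D DS).app (op p.unop.k.1)
      naturality := fun p q a => by
        rw [← Category.assoc, pairDiagram_map_ι, Category.assoc, Category.assoc, Category.assoc]
        refine congrArg (p.unop.L.1.subschemeι ≫ ·) ?_
        show ((prodDiagram D DS).map _).resLE _ _ _ ≫ _ = _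
        erw [Scheme.Hom.resLE_comp_ι_assoc]
        exact congrArg (_ ≫ ·) ((prodSnd D DS).naturality _) }
  refine ⟨Pair E dE g', inferInstance, inferInstance, inferInstance, F, hF, pairDiagram E dE g', φ,
    pairCone E dE g', isLimitPairCone E dE g' hdE, Iso.refl _, fun i j a => isAffineHom_pairDiagram_map E dE g' a,
    fun p => ?_, fun p => ?_⟩
  · let q := op p.unop.k.1
    let Op := (prodDiagram D DS).map (homOfLE p.unop.k.2).op ⁻¹ᵁ O₀
    haveI : LocallyOfFinitePresentation p.unop.L.1.subschemeι := lfp_subschemeι_pair E dE g' p.unop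
    obtain ⟨_, _, _⟩ := hsnd q
    haveI : CompactSpace Op.toScheme := inferInstanceAs (CompactSpace (E.obj (op p.unop.k)))
    haveI : QuasiCompact Op.ι := quasiCompact_of_compactSpace _
    exact ⟨inferInstanceAs (LocallyOfFinitePresentation (p.unop.L.1.subschemeι ≫ Op.ι ≫ (prodSnd D DS).app q)),
      inferInstanceAs (QuasiCompact (p.unop.L.1.subschemeι ≫ Op.ι ≫ (prodSnd D DS).app q)),
      inferInstanceAs (QuasiSeparated (p.unop.L.1.subschemeι ≫ Op.ι ≫ (prodSnd D DS).app q))⟩
  · let q := op p.unop.k.1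
    let Op := (prodDiagram D DS).map (homOfLE p.unop.k.2).op ⁻¹ᵁ O₀
    have h0 : (dE.π.app (op p.unop.k)) ≫ Op.ι = (d.π.app (op k₀) ⁻¹ᵁ O₀).ι ≫ d.π.app q :=
      Scheme.Hom.resLE_comp_ι _ _
    have e1 : g' ≫ (d.π.app (op k₀) ⁻¹ᵁ O₀).ι = Γf := by
      rw [← hg]; simp [g']
    have e2 : d.π.app q ≫ (prodSnd D DS).app q = pullback.snd _ _ ≫ cS.π.app (F.monotone.functor.op.obj p) :=
      pullback.lift_snd _ _ _
    calc (pairCone E dE g').π.app p ≫ p.unop.L.1.subschemeι ≫ Op.ι ≫ (prodSnd D DS).app q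
        = (g' ≫ dE.π.app (op p.unop.k)) ≫ Op.ι ≫ (prodSnd D DS).app q := by
          rw [← Category.assoc, pairCone_ι]
      _ = g' ≫ (dE.π.app (op p.unop.k) ≫ Op.ι) ≫ (prodSnd D DS).app q := by
          simp only [Category.assoc]
      _ = g' ≫ ((d.π.app (op k₀) ⁻¹ᵁ O₀).ι ≫ d.π.app q) ≫ (prodSnd D DS).app q := by rw [h0]
      _ = Γf ≫ d.π.app q ≫ (prodSnd D DS).app q := by rw [← e1]; simp only [Category.assoc]
      _ = Γf ≫ pullback.snd _ _ ≫ cS.π.app (F.monotone.functor.op.obj p) := by rw [e2]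
      _ = _ := by
        rw [← Category.assoc, show Γf ≫ pullback.snd _ _ = f ≫ eS.inv from pullback.lift_snd _ _ _,
          Iso.refl_hom, Category.assoc]
        exact (Category.id_comp _).symm

end Groth.Agent.AbsApprox
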