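import Groth.Agent.AbsApprox.ClosedLim
import Groth.Agent.LimMore.SepScheme
import Groth.Agent.LimMore.ClosedScheme
import Mathlib.CategoryTheory.Limits.Constructions.Over.Connected

/-!
Approximations by closed subschemes of separated, resp. finite, schemes are eventually separated,
resp. finite.
-/

set_option autoImplicit false
set_option backward.isDefEq.respectTransparency false
universe u
open CategoryTheory CategoryTheory.Limits AlgebraicGeometry Opposite

namespace Groth.Agent.AbsApprox

variable {X X' S : Scheme.{u}} (f : X ⟶ S) (f' : X' ⟶ S) (j : X ⟶ X') [IsClosedImmersion j] (w : j ≫ f' = f)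
  [LocallyOfFinitePresentation f'] [CompactSpace X'] [QuasiSeparatedSpace X']
  [CompactSpace S] [QuasiSeparatedSpace S]

instance (L : (LimClosed.FTBelow j.ker)ᵒᵖ) : CompactSpace ((closedDiagram f' j).obj L).left :=
  QuasiCompact.compactSpace_of_compactSpace ((LimClosed.diagram j.ker).obj L).hom

instance (L : (LimClosed.FTBelow j.ker)ᵒᵖ) : QuasiSeparatedSpace ((closedDiagram f' j).obj L).left :=
  quasiSeparatedSpace_of_quasiSeparated ((LimClosed.diagram j.ker).obj L).hom

/-- the underlying schemes have limit `X` -/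
noncomputable def isLimitForget [IsConnected (LimClosed.FTBelow j.ker)ᵒᵖ] :
    IsLimit ((Over.forget S).mapCone (closedCone f f' j w)) :=
  isLimitOfPreserves (Over.forget S) (isLimitClosedCone f f' j w)

theorem isConnected_index : IsConnected (LimClosed.FTBelow j.ker)ᵒᵖ :=
  haveI : IsCofiltered (LimClosed.FTBelow j.ker)ᵒᵖ := isCofiltered_op_of_isFiltered _
  IsCofiltered.isConnected _

include w in
theorem exists_isSeparated_closedDiagram [IsSeparated f] :
    ∃ L₁ : (LimClosed.FTBelow j.ker)ᵒᵖ, ∀ L : (LimClosed.FTBelow j.ker)ᵒᵖ, (L ⟶ L₁) →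
      IsSeparated ((closedDiagram f' j).obj L).hom := by
  let D := closedDiagram f' j
  let E := D ⋙ Over.forget S
  haveI : ∀ {L L'} (a : L ⟶ L'), IsClosedImmersion (E.map a) := fun a => isClosedImmersion_closedDiagram_map f' j a
  haveI : ∀ L, CompactSpace (E.obj L) := fun L => inferInstanceAs (CompactSpace (D.obj L).left)
  haveI : ∀ L, QuasiSeparatedSpace (E.obj L) := fun L => inferInstanceAs (QuasiSeparatedSpace (D.obj L).left)
  haveI : IsCofiltered (LimClosed.FTBelow j.ker)ᵒᵖ := isCofiltered_op_of_isFiltered _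
  haveI := isConnected_index j
  let L₀ : (LimClosed.FTBelow j.ker)ᵒᵖ := op (Classical.arbitrary _)
  haveI : IsSeparated (((Over.forget S).mapCone (closedCone f f' j w)).π.app L₀ ≫ (D.obj L₀).hom) := by
    show IsSeparated (((closedCone f f' j w).π.app L₀).left ≫ (D.obj L₀).hom)
    rw [Over.w ((closedCone f f' j w).π.app L₀)]
    exact (inferInstance : IsSeparated f)
  exact LimMore.exists_isSeparated_over E (fun L => (D.obj L).hom) (fun a => Over.w (D.map a)) _ (isLimitForget f f' j w) L₀

include w in
theorem exists_isFinite_closedDiagram [IsIntegralHom f] :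
    ∃ L₁ : (LimClosed.FTBelow j.ker)ᵒᵖ, ∀ L : (LimClosed.FTBelow j.ker)ᵒᵖ, (L ⟶ L₁) →
      IsFinite ((closedDiagram f' j).obj L).hom := by
  let D := closedDiagram f' j
  let E := D ⋙ Over.forget S
  haveI : ∀ {L L'} (a : L ⟶ L'), IsClosedImmersion (E.map a) := fun a => isClosedImmersion_closedDiagram_map f' j a
  haveI : ∀ {L L'} (a : L ⟶ L'), IsFinite (E.map a) := fun a => inferInstance
  haveI : ∀ L, CompactSpace (E.obj L) := fun L => inferInstanceAs (CompactSpace (D.obj L).left)
  haveI : ∀ L, QuasiSeparatedSpace (E.obj L) := fun L => inferInstanceAs (QuasiSeparatedSpace (D.obj L).left)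
  haveI : ∀ L, LocallyOfFiniteType (D.obj L).hom := fun L =>
    haveI := lfp_closedDiagram f' j L
    inferInstance
  haveI : IsCofiltered (LimClosed.FTBelow j.ker)ᵒᵖ := isCofiltered_op_of_isFiltered _
  haveI := isConnected_index j
  let L₀ : (LimClosed.FTBelow j.ker)ᵒᵖ := op (Classical.arbitrary _)
  haveI : IsIntegralHom (((Over.forget S).mapCone (closedCone f f' j w)).π.app L₀ ≫ (D.obj L₀).hom) := by
    show IsIntegralHom (((closedCone f f' j w).π.app L₀).left ≫ (D.obj L₀).hom)
    rw [Over.w ((closedCone f f' j w).π.app L₀)]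
    exact (inferInstance : IsIntegralHom f)
  exact LimMore.exists_isFinite_over E (fun L => (D.obj L).hom) (fun a => Over.w (D.map a)) _ (isLimitForget f f' j w) L₀

end Groth.Agent.AbsApprox
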