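import Groth.Agent.AbsApprox.Cofinal

/-!
The gluing step.
-/

set_option autoImplicit false
set_option backward.isDefEq.respectTransparency false
universe u
open CategoryTheory CategoryTheory.Limits AlgebraicGeometry Opposite

open Groth.Agent.LimModel (FgSub fgDiagram fgCone fgIsLimit isOpenImmersion_inl isOpenImmersion_inr inl_range_sup_inr_range)

namespace Groth.Agent.AbsApprox

namespace StepData

variable (d : StepData.{u})

/-- the index set of the glued system -/
abbrev J : Type u := {p : d.I × FgSub d.A // d.Good p.1 p.2}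

theorem directed_J : IsDirected d.J (fun a b => a ≤ b) := ⟨fun a b => by
  obtain ⟨i, hi, hi'⟩ := exists_ge_ge a.1.1 b.1.1
  obtain ⟨k, B, hk, hB, hgood⟩ := d.exists_good i ⟨a.1.2.1 ⊔ b.1.2.1, a.1.2.2.sup b.1.2.2⟩
  exact ⟨⟨(k, B), hgood⟩, ⟨hi.trans hk, le_sup_left.trans (show _ ≤ B.1 from hB)⟩, hi'.trans hk,
    le_sup_right.trans (show _ ≤ B.1 from hB)⟩⟩

theorem nonempty_J : Nonempty d.J := by
  obtain ⟨k, B, -, -, hgood⟩ := d.exists_good d.i₀ ⟨⊥, Subalgebra.fg_bot⟩
  exact ⟨⟨(k, B), hgood⟩⟩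

/-- the first projection -/
def toI : d.J →o d.I := ⟨fun p => p.1.1, fun _ _ h => h.1⟩

/-- the second projection -/
def toB : d.J →o FgSub d.A := ⟨fun p => p.1.2, fun _ _ h => h.2⟩

theorem initial_toI : d.toI.monotone.functor.op.Initial :=
  have := d.directed_J
  have := d.nonempty_J
  final_of_cofinal d.toI fun i => by
    obtain ⟨k, B, hk, -, hgood⟩ := d.exists_good i ⟨⊥, Subalgebra.fg_bot⟩
    exact ⟨⟨(k, B), hgood⟩, hk⟩

theorem initial_toB : d.toB.monotone.functor.op.Initial :=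
  have := d.directed_J
  have := d.nonempty_J
  final_of_cofinal d.toB fun B₀ => by
    obtain ⟨k, B, -, hB, hgood⟩ := d.exists_good d.i₀ B₀
    exact ⟨⟨(k, B), hgood⟩, hB⟩

theorem isConnected_J : IsConnected (d.J)ᵒᵖ :=
  have := d.directed_J
  have := d.nonempty_J
  have : IsCofiltered (d.J)ᵒᵖ := isCofiltered_op_of_isFiltered _
  IsCofiltered.isConnected _

/-- the `U` side -/
abbrev DU : (d.J)ᵒᵖ ⥤ Scheme.{u} := d.toI.monotone.functor.op ⋙ d.D

/-- the affine side -/
noncomputable abbrev DV : (d.J)ᵒᵖ ⥤ Scheme.{u} := d.toB.monotone.functor.op ⋙ fgDiagram d.A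

/-- the common open -/
noncomputable abbrev DJ : (d.J)ᵒᵖ ⥤ Scheme.{u} := d.toI.monotone.functor.op ⋙ d.DW

/-- the open immersion into the affine side -/
noncomputable def θ (p : (d.J)ᵒᵖ) : d.DJ.obj p ⟶ d.DV.obj p := p.unop.2.2.choose

theorem pW_θ (p : (d.J)ᵒᵖ) : d.pW (op (d.toI p.unop)) ≫ d.θ p = d.W.ι ≫ d.q (d.toB p.unop) :=
  p.unop.2.2.choose_spec.1

instance (p : (d.J)ᵒᵖ) : IsOpenImmersion (d.θ p) := p.unop.2.2.choose_spec.2.1

theorem range_θ (p : (d.J)ᵒᵖ) : Set.range (d.θ p) = d.WB (d.toB p.unop) := p.unop.2.2.choose_spec.2.2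

theorem q_map {p p' : (d.J)ᵒᵖ} (φ : p ⟶ p') : d.q (d.toB p.unop) ≫ d.DV.map φ = d.q (d.toB p'.unop) :=
  (fgCone d.A).w (d.toB.monotone.functor.op.map φ)

/-- the natural inclusion of the common open into the affine side -/
noncomputable def g : d.DJ ⟶ d.DV where
  app := d.θ
  naturality p p' φ := by
    haveI : IsAffine (d.DV.obj p') := inferInstanceAs (IsAffine (Spec _))
    refine d.hom_ext_affine (i := op (d.toI p.unop)) ?_
    show d.pW _ ≫ d.DW.map _ ≫ d.θ p' = d.pW _ ≫ d.θ p ≫ d.DV.map φ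
    exact ((d.pW_map_assoc (d.toI.monotone.functor.op.map φ) (d.θ p')).trans ((d.pW_θ p').trans
      ((congrArg (d.W.ι ≫ ·) (d.q_map φ).symm).trans ((Category.assoc _ _ _).symm.trans
        ((congrArg (· ≫ d.DV.map φ) (d.pW_θ p).symm).trans (Category.assoc _ _ _))))))

instance (p : (d.J)ᵒᵖ) : IsOpenImmersion (d.g.app p) := inferInstanceAs (IsOpenImmersion (d.θ p))

/-- the natural inclusion of the common open into the `U` side -/
noncomputable def f : d.DJ ⟶ d.DU := Functor.whiskerLeft d.toI.monotone.functor.op d.ιW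

instance (p : (d.J)ᵒᵖ) : IsOpenImmersion (d.f.app p) := inferInstanceAs (IsOpenImmersion (d.ιW.app _))

theorem preimage_WB {B B' : FgSub d.A} (h : B.1 ≤ B'.1) (hs : ∀ f ∈ d.s, f ∈ B.1) :
    (PrimeSpectrum.comap (Subalgebra.inclusion h).toRingHom) ⁻¹' d.WB B = d.WB B' := by
  ext p
  simp only [WB, Set.mem_preimage, Set.mem_iUnion]
  exact ⟨fun ⟨f, hf, hfB, hp⟩ => ⟨f, hf, h hfB, hp⟩, fun ⟨f, hf, _, hp⟩ => ⟨f, hf, hs f hf, hp⟩⟩

theorem hfpre {p p' : (d.J)ᵒᵖ} (φ : p ⟶ p') : d.DU.map φ ⁻¹' Set.range (d.f.app p') ⊆ Set.range (d.f.app p) :=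
  (d.range_ιW _).le

theorem hgpre {p p' : (d.J)ᵒᵖ} (φ : p ⟶ p') : d.DV.map φ ⁻¹' Set.range (d.g.app p') ⊆ Set.range (d.g.app p) := by
  intro x hx
  have hx' : d.DV.map φ x ∈ d.WB (d.toB p'.unop) := (d.range_θ p').le hx
  show x ∈ Set.range (d.θ p)
  rw [d.range_θ, ← d.preimage_WB (d.toB.monotone (leOfHom φ.unop)) p'.unop.2.1]
  exact hx'

/-- the cone of the `U` side -/
noncomputable def cU : Cone d.DU := (Cone.mk d.U d.π).whisker _

/-- the cone of the affine side -/
noncomputable def cV : Cone d.DV := (fgCone d.A).whisker _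

/-- the cone of the common open -/
noncomputable def cJ : Cone d.DJ := d.cW.whisker _

theorem preimage_q (B : FgSub d.A) (hs : ∀ f ∈ d.s, f ∈ B.1) : d.q B ⁻¹' d.WB B = (d.W : Set (Spec (CommRingCat.of d.A))) := by
  rw [d.hs]
  ext p
  simp only [WB, Set.mem_preimage, Set.mem_iUnion, TopologicalSpace.Opens.coe_iSup, SetLike.mem_coe]
  exact ⟨fun ⟨f, hf, _, hp⟩ => ⟨f, hf, hp⟩, fun ⟨f, hf, hp⟩ => ⟨f, hf, hs f hf, hp⟩⟩

/-- **The gluing step.** -/
theorem hasApprox : HasApprox (pushout d.jU d.W.ι) := by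
  classical
  have := d.isConnected_J
  have := d.directed_J
  have := d.nonempty_J
  have := d.initial_toI
  have := d.initial_toB
  have : IsOpenImmersion d.jU := d.open_jU
  let hlU : IsLimit d.cU := (Functor.Initial.isLimitWhiskerEquiv _ _).symm d.isLim
  let hlV : IsLimit d.cV := (Functor.Initial.isLimitWhiskerEquiv _ _).symm (fgIsLimit d.A)
  have ha : ∀ p, d.jU ≫ d.cU.π.app p = d.cJ.π.app p ≫ d.f.app p := fun p => (d.pW_ι _).symm
  have hb : ∀ p, d.W.ι ≫ d.cV.π.app p = d.cJ.π.app p ≫ d.g.app p := fun p => (d.pW_θ p).symm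
  have : @IsOpenImmersion d.cJ.pt d.cU.pt d.jU := d.open_jU
  have : @IsOpenImmersion d.cJ.pt d.cV.pt d.W.ι := inferInstanceAs (IsOpenImmersion d.W.ι)
  let T := glue d.f d.g
  let c := glueCone d.f d.g d.cU d.cV d.cJ d.jU d.W.ι ha hb
  have hau : ∀ p, d.cU.π.app p ⁻¹' Set.range (d.f.app p) ⊆ Set.range d.jU := fun p x hx => by
    have h : x ∈ d.π.app (op (d.toI p.unop)) ⁻¹ᵁ d.Wo (op (d.toI p.unop)) := by
      obtain ⟨y, hy⟩ := hx
      show d.π.app _ x ∈ d.Wo _
      exact hy ▸ y.2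
    exact (d.preimage_π _).le h
  have hbv : ∀ p, d.cV.π.app p ⁻¹' Set.range (d.g.app p) ⊆ Set.range d.W.ι := fun p x hx => by
    rw [Scheme.Opens.range_ι, ← d.preimage_q (d.toB p.unop) p.unop.2.1]
    exact (d.range_θ p).le hx
  have hlim : IsLimit c := isLimitGlueCone d.f d.g d.cU d.cV d.cJ d.jU d.W.ι ha hb d.hfpre d.hgpre hlU hlV hau hbv
  refine ⟨d.J, inferInstance, inferInstance, inferInstance, T, c.π, hlim, fun p p' φ => ?_, fun p => ⟨?_, ?_⟩, fun p => ?_⟩
  · haveI : IsAffineHom (d.DU.map φ) := d.aff _ _ _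
    haveI : IsAffineHom (d.DV.map φ) := inferInstanceAs (IsAffineHom (Spec.map _))
    exact isAffineHom_glue_map d.f d.g d.hfpre d.hgpre φ
  · haveI : CompactSpace (d.DU.obj p) := (d.ft _).1
    haveI : CompactSpace (d.DV.obj p) := inferInstanceAs (CompactSpace (Spec (CommRingCat.of (d.toB p.unop).1)))
    refine ⟨?_⟩
    show IsCompact (Set.univ : Set (pushout (d.f.app p) (d.g.app p) : Scheme.{u}))
    rw [← inl_range_sup_inr_range (d.f.app p) (d.g.app p)]
    exact (isCompact_range (pushout.inl _ _ : d.DU.obj p ⟶ _).continuous).union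
      (isCompact_range (pushout.inr _ _ : d.DV.obj p ⟶ _).continuous)
  · refine IsZariskiLocalAtSource.of_openCover (P := @LocallyOfFiniteType) (cover (d.f.app p) (d.g.app p)) ?_
    rintro ⟨_ | _⟩
    · exact Eq.mp (congrArg (fun k => LocallyOfFiniteType k) (specULiftZIsTerminal.hom_ext _ _)) (lft_Spec_of_fg (d.toB p.unop))
    · exact Eq.mp (congrArg (fun k => LocallyOfFiniteType k) (specULiftZIsTerminal.hom_ext _ _)) ((d.ft (op (d.toI p.unop))).2)
  · haveI : IsAffineHom (c.π.app p) := by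
      refine prop_map d.jU d.W.ι (d.f.app p) (d.g.app p) (d.cJ.π.app p) (d.cU.π.app p) (d.cV.π.app p) (ha p) (hb p)
        @IsAffineHom (hau p) (hbv p) ?_ ?_
      · exact inferInstanceAs (IsAffineHom (d.π.app _))
      · exact inferInstanceAs (IsAffineHom (Spec.map _))
    haveI := isOpenImmersion_inl (d.f.app p) (d.g.app p)
    haveI := isOpenImmersion_inr (d.f.app p) (d.g.app p)
    refine std_of_cover _ fun y => ?_
    rcases (inl_range_sup_inr_range (d.f.app p) (d.g.app p)).ge (Set.mem_univ y) with ⟨z, hz⟩ | ⟨z, hz⟩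
    · obtain ⟨_, ⟨O, hO, rfl⟩, hzO, -⟩ := (d.DU.obj p).isBasis_affineOpens.exists_subset_of_mem_open (Set.mem_univ z) isOpen_univ
      let i := (pushout.inl (d.f.app p) (d.g.app p) : d.DU.obj p ⟶ T.obj p)
      refine ⟨⟨i ''ᵁ O, hO.image_of_isOpenImmersion i⟩, ⟨z, hzO, hz⟩, ?_⟩
      have e : pushout.inl d.jU d.W.ι ≫ c.π.app p = d.cU.π.app p ≫ i := inl_glueCone d.f d.g d.cU d.cV d.cJ d.jU d.W.ι ha hb p
      have hq : Function.Injective ((d.cU.π.app p ≫ i).app (i ''ᵁ O)) := by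
        rw [Scheme.Hom.comp_app]
        haveI : IsSchemeTheoreticallyDominant (d.cU.π.app p) := d.std _
        haveI : IsAffineHom (d.cU.π.app p) := inferInstanceAs (IsAffineHom (d.π.app _))
        intro a b h
        exact (asIso (i.app (i ''ᵁ O))).commRingCatIsoToRingEquiv.injective ((d.cU.π.app p).app_injective _ h)
      rw [← e, Scheme.Hom.comp_app] at hq
      intro a b h
      exact hq (by rw [CommRingCat.comp_apply, CommRingCat.comp_apply]; exact congrArg _ h)
    · obtain ⟨_, ⟨O, hO, rfl⟩, hzO, -⟩ := (d.DV.obj p).isBasis_affineOpens.exists_subset_of_mem_open (Set.mem_univ z) isOpen_univ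
      let i := (pushout.inr (d.f.app p) (d.g.app p) : d.DV.obj p ⟶ T.obj p)
      refine ⟨⟨i ''ᵁ O, hO.image_of_isOpenImmersion i⟩, ⟨z, hzO, hz⟩, ?_⟩
      have e : pushout.inr d.jU d.W.ι ≫ c.π.app p = d.cV.π.app p ≫ i := inr_glueCone d.f d.g d.cU d.cV d.cJ d.jU d.W.ι ha hb p
      have hq : Function.Injective ((d.cV.π.app p ≫ i).app (i ''ᵁ O)) := by
        rw [Scheme.Hom.comp_app]
        haveI : IsSchemeTheoreticallyDominant (d.cV.π.app p) :=
          std_Spec_map (CommRingCat.ofHom (algebraMap (d.toB p.unop).1 d.A)) Subtype.val_injective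
        haveI : IsAffineHom (d.cV.π.app p) := inferInstanceAs (IsAffineHom (Spec.map _))
        intro a b h
        exact (asIso (i.app (i ''ᵁ O))).commRingCatIsoToRingEquiv.injective ((d.cV.π.app p).app_injective _ h)
      rw [← e, Scheme.Hom.comp_app] at hq
      intro a b h
      exact hq (by rw [CommRingCat.comp_apply, CommRingCat.comp_apply]; exact congrArg _ h)

end StepData

end Groth.Agent.AbsApprox
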