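import Groth.Agent.AbsApprox.Chevalley
import Mathlib.AlgebraicGeometry.QuasiAffine

/-!
# A scheme with a quasi-affine closed subscheme on the same underlying space is quasi-affine
-/

set_option autoImplicit false

universe u

open CategoryTheory CategoryTheory.Limits AlgebraicGeometry TopologicalSpace

namespace Groth.Agent.AbsApprox

/-- high powers of a nilpotent perturbation of the inverted element come from the ring -/
theorem exists_eq_pow_add {A B : Type*} [CommRing A] [CommRing B] [Algebra A B] (x : A)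
    [IsLocalization.Away x B] (e : B) (he : IsNilpotent e) :
    ∃ N₀ : ℕ, ∀ N, N₀ ≤ N → ∃ b : A, algebraMap A B (x * b) = (algebraMap A B x + e) ^ N := by
  obtain ⟨m, hm⟩ := he
  obtain ⟨n, f, hf⟩ := IsLocalization.Away.surj x e
  refine ⟨n * m + m + 1, fun N hN => ?_⟩
  suffices (algebraMap A B x + e) ^ N ∈
      ((algebraMap A B).toAddMonoidHom.comp (AddMonoidHom.mulLeft x)).range by
    obtain ⟨b, hb⟩ := this
    exact ⟨b, hb⟩
  rw [add_comm (algebraMap A B x), add_pow]
  refine AddSubgroup.sum_mem _ fun j _ => ?_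
  by_cases hj : m ≤ j
  · rw [pow_eq_zero_of_le hj hm, zero_mul, zero_mul]
    exact zero_mem _
  · push Not at hj
    have hnj : n * j ≤ n * m := Nat.mul_le_mul_left n hj.le
    refine ⟨x ^ (N - j - n * j - 1) * f ^ j * (N.choose j : A), ?_⟩
    have h1 : x * (x ^ (N - j - n * j - 1) * f ^ j * (N.choose j : A)) =
        x ^ (N - j - n * j) * f ^ j * (N.choose j : A) := by
      rw [← mul_assoc, ← mul_assoc, ← pow_succ']
      congr 3
      omega
    change algebraMap A B (x * _) = _
    rw [h1, map_mul, map_mul, map_pow, map_pow, map_natCast, ← hf]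
    have h2 : N - j = (N - j - n * j) + n * j := by omega
    conv_rhs => rw [h2, pow_add, pow_mul]
    rw [mul_pow]
    ring

theorem pow_sub_pow_eq_zero {R : Type*} [CommRing R] (x y : R) (m : ℕ)
    (hx : x ^ m * (x - y) = 0) (hy : y ^ m * (x - y) = 0) : x ^ (2 * m + 1) = y ^ (2 * m + 1) := by
  rw [← sub_eq_zero, ← geom_sum₂_mul, Finset.sum_mul]
  refine Finset.sum_eq_zero fun l hl => ?_
  rcases le_or_gt m l with h | h
  · obtain ⟨r, rfl⟩ := Nat.exists_eq_add_of_le h
    linear_combination (x ^ r * y ^ (2 * m + 1 - 1 - (m + r))) * hx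
  · obtain ⟨r, hr⟩ := Nat.exists_eq_add_of_le (show m ≤ 2 * m + 1 - 1 - l by omega)
    rw [hr]
    linear_combination (x ^ l * y ^ r) * hy

variable {Z X : Scheme.{u}} (i : Z ⟶ X) [IsClosedImmersion i] [Surjective i]

include i in
theorem opens_eq_of_preimage_eq {U V : X.Opens} (h : i ⁻¹ᵁ U = i ⁻¹ᵁ V) : U = V := by
  refine SetLike.coe_injective (i.surjective.preimage_injective ?_)
  exact congrArg (fun T : Z.Opens => (T : Set Z)) h

set_option backward.isDefEq.respectTransparency false in
/-- an open that becomes a basic open on the closed subscheme is a basic open -/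
theorem exists_basicOpen_eq [CompactSpace X] [QuasiSeparatedSpace X] (t : Γ(Z, ⊤)) (W : X.Opens)
    (hW : IsAffineOpen W) (htW : i ⁻¹ᵁ W = Z.basicOpen t) :
    ∃ c : Γ(X, ⊤), X.basicOpen c = W := by
  classical
  obtain ⟨a, ha⟩ := i.app_surjective W hW (Z.presheaf.map (homOfLE le_top : i ⁻¹ᵁ W ⟶ ⊤).op t)
  have haW : X.basicOpen a = W := by
    refine opens_eq_of_preimage_eq i ?_
    rw [Scheme.preimage_basicOpen, ha, Scheme.basicOpen_res, htW, inf_idem]
  let 𝒰 := X.affineCover.finiteSubcover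
  let U : 𝒰.I₀ → X.Opens := fun k => (𝒰.f k).opensRange
  have hU : ∀ k, IsAffineOpen (U k) := fun k => isAffineOpen_opensRange _
  have hcov : iSup U = ⊤ := 𝒰.iSup_opensRange
  have key : ∀ k, ∃ x : Γ(X, U k), X.basicOpen x = U k ⊓ W ∧ ∃ N₀ : ℕ, ∀ N, N₀ ≤ N →
      ∃ b : Γ(X, U k), X.basicOpen b = U k ⊓ W ∧
        X.presheaf.map (homOfLE inf_le_left : U k ⊓ W ⟶ U k).op b =
          X.presheaf.map (homOfLE inf_le_right : U k ⊓ W ⟶ W).op (a ^ N) := by
    intro k
    obtain ⟨x, hx⟩ := i.app_surjective (U k) (hU k) (Z.presheaf.map (homOfLE le_top : i ⁻¹ᵁ U k ⟶ ⊤).op t)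
    have hxb : X.basicOpen x = U k ⊓ W := by
      refine opens_eq_of_preimage_eq i ?_
      rw [Scheme.preimage_basicOpen, hx, Scheme.basicOpen_res, Scheme.Hom.preimage_inf, htW]
    refine ⟨x, hxb, ?_⟩
    have haff : IsAffineOpen (U k ⊓ W) := hxb ▸ (hU k).basicOpen x
    let ρ := X.presheaf.map (homOfLE inf_le_left : U k ⊓ W ⟶ U k).op
    letI : Algebra Γ(X, U k) Γ(X, U k ⊓ W) := ρ.hom.toAlgebra
    have : IsLocalization.Away x Γ(X, U k ⊓ W) :=
      (hU k).isLocalization_of_eq_basicOpen x (homOfLE inf_le_left) hxb.symm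
    let e : Γ(X, U k ⊓ W) := X.presheaf.map (homOfLE inf_le_right : U k ⊓ W ⟶ W).op a - ρ x
    have he0 : i.app (U k ⊓ W) e = 0 := by
      simp only [e, ρ, map_sub]
      rw [← ConcreteCategory.comp_apply, ← ConcreteCategory.comp_apply, i.naturality, i.naturality,
        ConcreteCategory.comp_apply, ConcreteCategory.comp_apply, ha, hx,
        ← ConcreteCategory.comp_apply, ← ConcreteCategory.comp_apply, ← Functor.map_comp, ← Functor.map_comp,
        sub_eq_zero]
      rfl
    have he : IsNilpotent e := by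
      rw [Scheme.isNilpotent_iff_basicOpen_eq_bot_of_isCompact haff.isCompact]
      refine opens_eq_of_preimage_eq i ?_
      rw [Scheme.preimage_basicOpen, he0, Scheme.basicOpen_zero]
      rfl
    obtain ⟨N₀, hN₀⟩ := exists_eq_pow_add x e he
    refine ⟨N₀, fun N hN => ?_⟩
    obtain ⟨b, hb⟩ := hN₀ N hN
    have hb' : ρ (x * b) = X.presheaf.map (homOfLE inf_le_right : U k ⊓ W ⟶ W).op (a ^ N) := by
      have : algebraMap Γ(X, U k) Γ(X, U k ⊓ W) (x * b) = ρ (x * b) := rfl
      rw [← this, hb, map_pow]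
      congr 1
      change ρ x + e = _
      simp only [e]
      abel
    refine ⟨x * b, le_antisymm ?_ ?_, hb'⟩
    · rw [Scheme.basicOpen_mul, hxb]
      exact inf_le_left
    · have h1 := X.basicOpen_res (x * b) (homOfLE inf_le_left : U k ⊓ W ⟶ U k).op
      rw [show X.presheaf.map (homOfLE inf_le_left : U k ⊓ W ⟶ U k).op (x * b) = _ from hb',
        Scheme.basicOpen_res] at h1
      rcases Nat.eq_zero_or_pos N with rfl | hN'
      · rw [pow_zero, Scheme.basicOpen_of_isUnit _ isUnit_one] at h1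
        rw [inf_eq_left.2 inf_le_right] at h1
        exact h1.le.trans inf_le_right
      · rw [Scheme.basicOpen_pow _ _ hN', haW, inf_eq_left.2 inf_le_right] at h1
        exact h1.le.trans inf_le_right
  choose x hx N₀ hN₀ using key
  have := Fintype.ofFinite 𝒰.I₀
  let N := Finset.univ.sup N₀
  choose b hb hbr using fun k => hN₀ k N (Finset.le_sup (Finset.mem_univ k))
  let L : ∀ k l, Γ(X, U k ⊓ U l) := fun k l => X.presheaf.map (homOfLE inf_le_left : U k ⊓ U l ⟶ U k).op (b k)
  let R : ∀ k l, Γ(X, U k ⊓ U l) := fun k l => X.presheaf.map (homOfLE inf_le_right : U k ⊓ U l ⟶ U l).op (b l)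
  have hkey2 : ∀ kl : 𝒰.I₀ × 𝒰.I₀, ∃ m : ℕ, (L kl.1 kl.2) ^ m * (L kl.1 kl.2 - R kl.1 kl.2) = 0 ∧
      (R kl.1 kl.2) ^ m * (L kl.1 kl.2 - R kl.1 kl.2) = 0 := by
    rintro ⟨k, l⟩
    have hc : IsCompact (↑(U k ⊓ U l) : Set X) :=
      QuasiSeparatedSpace.inter_isCompact _ _ (U k).isOpen (hU k).isCompact (U l).isOpen (hU l).isCompact
    have hzero : ∀ (T : X.Opens) (hT : T ≤ U k ⊓ U l) (_ : T ≤ W),
        X.presheaf.map (homOfLE hT).op (L k l - R k l) = 0 := by
      intro T hT hTW
      have h1 : X.presheaf.map (homOfLE hT).op (L k l) = X.presheaf.map (homOfLE hTW).op (a ^ N) := by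
        have h := congrArg (X.presheaf.map (homOfLE (le_inf (hT.trans inf_le_left) hTW)).op).hom (hbr k)
        rw [← ConcreteCategory.comp_apply, ← ConcreteCategory.comp_apply, ← Functor.map_comp, ← Functor.map_comp] at h
        simp only [L]
        rw [← ConcreteCategory.comp_apply, ← Functor.map_comp]
        exact h
      have h2 : X.presheaf.map (homOfLE hT).op (R k l) = X.presheaf.map (homOfLE hTW).op (a ^ N) := by
        have h := congrArg (X.presheaf.map (homOfLE (le_inf (hT.trans inf_le_right) hTW)).op).hom (hbr l)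
        rw [← ConcreteCategory.comp_apply, ← ConcreteCategory.comp_apply, ← Functor.map_comp, ← Functor.map_comp] at h
        simp only [R]
        rw [← ConcreteCategory.comp_apply, ← Functor.map_comp]
        exact h
      rw [map_sub, h1, h2, sub_self]
    obtain ⟨m₁, hm₁⟩ := exists_pow_mul_eq_zero_of_res_basicOpen_eq_zero_of_isCompact X hc (L k l - R k l) (L k l)
      (hzero _ (X.basicOpen_le _) (by
        simp only [L]
        rw [Scheme.basicOpen_res, hb k]
        exact inf_le_right.trans inf_le_right))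
    obtain ⟨m₂, hm₂⟩ := exists_pow_mul_eq_zero_of_res_basicOpen_eq_zero_of_isCompact X hc (L k l - R k l) (R k l)
      (hzero _ (X.basicOpen_le _) (by
        simp only [R]
        rw [Scheme.basicOpen_res, hb l]
        exact inf_le_right.trans inf_le_right))
    refine ⟨m₁ + m₂, ?_, ?_⟩
    · rw [pow_add, mul_right_comm, hm₁, zero_mul]
    · rw [pow_add, mul_assoc, hm₂, mul_zero]
  choose m hm₁ hm₂ using hkey2
  let M := Finset.univ.sup m
  let q := 2 * M + 1
  have hcompat : TopCat.Presheaf.IsCompatible X.presheaf U (fun k => b k ^ q) := by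
    intro k l
    change X.presheaf.map _ (b k ^ q) = X.presheaf.map _ (b l ^ q)
    rw [map_pow, map_pow]
    obtain ⟨r, hr⟩ := Nat.exists_eq_add_of_le (show m (k, l) ≤ M from Finset.le_sup (Finset.mem_univ (k, l)))
    refine pow_sub_pow_eq_zero _ _ M ?_ ?_
    · change (L k l) ^ M * (L k l - R k l) = 0
      rw [hr, pow_add, mul_right_comm, hm₁ (k, l), zero_mul]
    · change (R k l) ^ M * (L k l - R k l) = 0
      rw [hr, pow_add, mul_right_comm, hm₂ (k, l), zero_mul]
  obtain ⟨c, hc, -⟩ := TopCat.Sheaf.existsUnique_gluing' X.sheaf U ⊤ (fun k => homOfLE le_top) hcov.ge _ hcompat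
  refine ⟨c, ?_⟩
  have hloc : ∀ k, U k ⊓ X.basicOpen c = U k ⊓ W := by
    intro k
    have h1 := X.basicOpen_res c (homOfLE le_top : U k ⟶ ⊤).op
    rw [show X.presheaf.map (homOfLE le_top : U k ⟶ ⊤).op c = b k ^ q from hc k,
      Scheme.basicOpen_pow _ _ (Nat.succ_pos _), hb k] at h1
    exact h1.symm
  refine SetLike.ext fun y => ?_
  obtain ⟨k, hk⟩ := Opens.mem_iSup.1 (hcov.ge (Set.mem_univ y))
  have := SetLike.ext_iff.1 (hloc k) y
  simp only [Opens.mem_inf, hk, true_and] at this
  exact this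

include i in
/-- A scheme is quasi-affine if a closed subscheme on the same underlying space is. -/
theorem isQuasiAffine_of_surjective_closedImmersion [Z.IsQuasiAffine] : X.IsQuasiAffine := by
  have := isSeparated_of_surjective i
  have : CompactSpace X := ⟨by rw [← i.surjective.range_eq]; exact isCompact_range i.continuous⟩
  refine .of_forall_exists_mem_basicOpen X fun x => ?_
  obtain ⟨z, rfl⟩ := i.surjective x
  obtain ⟨_, ⟨_, ⟨t, ht, rfl⟩, rfl⟩, hzt, -⟩ :=
    (Scheme.IsQuasiAffine.isBasis_basicOpen Z).exists_subset_of_mem_open (Set.mem_univ z) isOpen_univ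
  let h : IsHomeomorph i := isHomeomorph_iff_isEmbedding_surjective.2 ⟨i.isClosedEmbedding.isEmbedding, i.surjective⟩
  let W : X.Opens := ⟨i '' (Z.basicOpen t : Set Z), h.isOpenMap _ (Z.basicOpen t).isOpen⟩
  have htW : i ⁻¹ᵁ W = Z.basicOpen t :=
    SetLike.coe_injective (Set.preimage_image_eq _ i.isClosedEmbedding.injective)
  have : IsAffine (i ⁻¹ᵁ W).toScheme := by rw [htW]; exact ht
  have : IsClosedImmersion (i ∣_ W) := IsZariskiLocalAtTarget.restrict (P := @IsClosedImmersion) ‹_› W
  have : Surjective (i ∣_ W) := IsZariskiLocalAtTarget.restrict (P := @Surjective) ‹_› W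
  have hW : IsAffineOpen W := isAffine_of_universallyClosed (i ∣_ W)
  obtain ⟨c, hc⟩ := exists_basicOpen_eq i t W hW htW
  exact ⟨c, hc ▸ hW, hc ▸ Set.mem_image_of_mem _ hzt⟩

end Groth.Agent.AbsApprox
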